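import Cfsg.Agent.Lib.Forms.Max.NineTensor.Frame
import Cfsg.Agent.Lib.Forms.Max.OrthOrth.Slots
import Cfsg.Agent.Lib.Forms.Max.OrthOrth.Spread
import Cfsg.Agent.Lib.Forms.Spinor

/-!
# The tensor square of a three-dimensional orthogonal space: the wreath stabiliser and its overgroups
-/

set_option autoImplicit false
set_option linter.unusedSectionVars false

namespace Cfsg.Agent.Forms.Max.NineTensor

open Matrix Cfsg.Agent.Aschbacher Cfsg.Agent.Forms.QuadStd Cfsg.Agent.Forms.Reflections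
  Cfsg.Agent.Classical.Orth Cfsg.Agent.Forms.Max.TensorMax Cfsg.Agent.Forms.Max.OrthOrth
open Cfsg.Agent.Forms.Max.TensorRes (kr_mem_kron exists_kr)
open Cfsg.Agent.Forms.Max.TensorRes.Unitary (pure_add_left pure_smul_left pure_add_right pure_smul_right
  pure_zero_left pure_zero_right pure_ne_zero)

variable {F : Type*} [Field F] [Fintype F]

local notation "Fv" => (Fin 3 → F)
local notation "Vv" => (Fin 3 × Fin 3 → F)
local notation "G9" => GL (Fin 3 × Fin 3) F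
local notation "Kr" => Cfsg.Geo.kroneckerSubgroup 3 3 F
local notation "Q₃" => (qd : QuadraticForm F (Fin 3 → F))
local notation "Q₉" => (qd : QuadraticForm F (Fin 3 × Fin 3 → F))

theorem dot_pure (u w u' w' : Fv) : pure u w ⬝ᵥ pure u' w' = (u ⬝ᵥ u') * (w ⬝ᵥ w') := by
  simp only [dotProduct, TensorMax.pure, Fintype.sum_prod_type, Finset.sum_mul_sum]
  exact Finset.sum_congr rfl fun i _ => Finset.sum_congr rfl fun j _ => by ring

/-- the exchange of the factors, as a matrix -/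
def swM : Matrix (Fin 3 × Fin 3) (Fin 3 × Fin 3) F := Matrix.of fun a b => if b = a.swap then 1 else 0

theorem swM_mulVec (x : Vv) : swM *ᵥ x = x ∘ Prod.swap := by
  funext a
  simp [swM, Matrix.mulVec, dotProduct]

theorem swM_sq : (swM : Matrix (Fin 3 × Fin 3) (Fin 3 × Fin 3) F) * swM = 1 :=
  Matrix.ext_of_mulVec_single fun i => by
    rw [← mulVec_mulVec, swM_mulVec, swM_mulVec, one_mulVec, Function.comp_assoc]
    simp

/-- the exchange of the factors -/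
def sw : G9 := ⟨swM, swM, swM_sq, swM_sq⟩

theorem sw_mul_self : (sw : G9) * sw = 1 := Units.ext swM_sq

theorem sw_inv : (sw : G9)⁻¹ = sw := rfl

theorem sw_mulVec (x : Vv) : (Units.val (sw : G9)) *ᵥ x = x ∘ Prod.swap := swM_mulVec x

theorem sw_pure (u w : Fv) : (Units.val (sw : G9)) *ᵥ pure u w = pure w u := by
  rw [sw_mulVec]; funext a; exact mul_comm _ _

theorem sw_dot (x y : Vv) : (Units.val (sw : G9)) *ᵥ x ⬝ᵥ (Units.val (sw : G9)) *ᵥ y = x ⬝ᵥ y := by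
  rw [sw_mulVec, sw_mulVec]
  exact (Equiv.prodComm (Fin 3) (Fin 3)).sum_comp fun a => x a * y a

/-- extensionality on pure tensors -/
theorem gl_ext9 {g g' : G9} (h : ∀ u w, (Units.val g) *ᵥ pure u w = (Units.val g') *ᵥ pure u w) : g = g' :=
  gl_ext fun x => by
    rw [TensorMax.sum_rows x, mulVec_sum, mulVec_sum]
    exact Finset.sum_congr rfl fun i _ => h _ _

theorem sw_kr (a b : GL (Fin 3) F) : sw * kr a b * sw = kr b a :=
  gl_ext9 fun u w => by rw [mulVec_mul_GL, mulVec_mul_GL, sw_pure, kr_pure, sw_pure, kr_pure]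

theorem kr_sw (a b : GL (Fin 3) F) : kr a b * sw = sw * kr b a := by
  rw [← sw_kr b a, mul_assoc, sw_mul_self, mul_one]

theorem sw_kron {g : G9} (h : g ∈ Kr) : sw * g * sw ∈ Kr := by
  obtain ⟨a, b, rfl⟩ := exists_kr h
  rw [sw_kr]; exact kr_mem_kron _ _

/-- the stabiliser of the decomposition into two equal factors -/
def Wr : Subgroup G9 where
  carrier := {g | g ∈ Kr ∨ g * sw ∈ Kr}
  one_mem' := Or.inl (one_mem Kr)
  mul_mem' {g h} hg hh := by
    rcases hg with hg | hg <;> rcases hh with hh | hh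
    · exact Or.inl (mul_mem hg hh)
    · exact Or.inr (by rw [mul_assoc]; exact mul_mem hg hh)
    · refine Or.inr ?_
      have := mul_mem hg (sw_kron hh)
      rwa [← mul_assoc, ← mul_assoc, mul_assoc g sw sw, sw_mul_self, mul_one] at this
    · refine Or.inl ?_
      have := mul_mem hg (sw_kron hh)
      rwa [mul_assoc sw, mul_assoc h sw sw, sw_mul_self, mul_one, ← mul_assoc, mul_assoc g sw sw, sw_mul_self,
        mul_one] at this
  inv_mem' {g} hg := by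
    rcases hg with hg | hg
    · exact Or.inl (inv_mem hg)
    · refine Or.inr ?_
      have := sw_kron (inv_mem hg)
      rwa [_root_.mul_inv_rev, sw_inv, ← mul_assoc, sw_mul_self, one_mul] at this

theorem sw_Wr {g : G9} (h : g ∈ (Wr : Subgroup G9)) : sw * g * sw ∈ (Wr : Subgroup G9) := by
  rcases h with h | h
  · exact Or.inl (sw_kron h)
  · refine Or.inr ?_
    have := sw_kron h
    rwa [← mul_assoc] at this

theorem sw_conj_eq (g : G9) : MulAut.conj sw g = sw * g * sw := by rw [MulAut.conj_apply, sw_inv]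

/-- the image of a group of matrices under the exchange -/
def swp (M : Subgroup G9) : Subgroup G9 := M.comap (MulAut.conj sw).toMonoidHom

theorem mem_swp {M : Subgroup G9} {g : G9} : g ∈ swp M ↔ sw * g * sw ∈ M := by
  rw [swp, Subgroup.mem_comap]
  exact iff_of_eq (congrArg (· ∈ M) (sw_conj_eq g))

theorem sw_sw (g : G9) : sw * (sw * g * sw) * sw = g := by
  rw [← mul_assoc, ← mul_assoc, sw_mul_self, one_mul, mul_assoc, sw_mul_self, mul_one]

theorem swp_swp (M : Subgroup G9) : swp (swp M) = M := by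
  ext g
  rw [mem_swp, mem_swp, sw_sw]

section
variable (h2 : (2 : F) ≠ 0)
include h2

theorem setup (h5 : 5 ≤ Fintype.card F) : OrthOrth.Setup Q₃ Q₃ Q₉ :=
  ⟨qd_nondeg h2, qd_nondeg h2, qd_nondeg h2, h2,
    fun u w u' w' => by rw [polar_qd h2, polar_qd h2, polar_qd h2, dot_pure],
    le_rfl, le_rfl, fun h => absurd h (by omega), Or.inl h5, fun h => absurd h (by omega)⟩

theorem sw_iso : (sw : G9) ∈ Cfsg.isometryGroup F ⇑Q₉ := fun x _ => by
  show Q₉ ((Units.val (sw : G9)) *ᵥ x) = Q₉ x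
  rw [qd_apply, qd_apply, sw_dot]

theorem swp_omega : swp (Cfsg.Geo.omegaGL ⇑Q₉) = Cfsg.Geo.omegaGL ⇑Q₉ := by
  have h1 : ∀ {g : G9}, g ∈ Cfsg.Geo.omegaGL ⇑Q₉ → sw * g * sw ∈ Cfsg.Geo.omegaGL ⇑Q₉ := by
    rintro g ⟨x, hx, rfl⟩
    refine ⟨⟨sw, sw_iso h2⟩ * x * ⟨sw, sw_iso h2⟩⁻¹, Subgroup.Normal.conj_mem inferInstance x hx _, ?_⟩
    simp [sw_inv]
  ext g
  rw [mem_swp]
  exact ⟨fun h => by have := h1 h; rwa [sw_sw] at this, h1⟩

/-- the kronecker products of isometries -/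
theorem exists_simil {a b : GL (Fin 3) F}
    (h : ∀ x, Q₉ ((Units.val (kr a b)) *ᵥ x) = Q₉ x) :
    ∃ μ : F, μ ≠ 0 ∧ (Units.val a)ᵀ * (Units.val a) = μ • 1 ∧ (Units.val b)ᵀ * (Units.val b) = μ⁻¹ • 1 := by
  have hp : ∀ x y, (Units.val (kr a b)) *ᵥ x ⬝ᵥ (Units.val (kr a b)) *ᵥ y = x ⬝ᵥ y := fun x y => by
    rw [← polar_qd h2, ← polar_qd h2]
    simp only [QuadraticMap.polar, ← mulVec_add, h]
  have hab : ∀ u w u' w', ((Units.val a) *ᵥ u ⬝ᵥ (Units.val a) *ᵥ u') * ((Units.val b) *ᵥ w ⬝ᵥ (Units.val b) *ᵥ w') =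
      (u ⬝ᵥ u') * (w ⬝ᵥ w') := fun u w u' w' => by
    rw [← dot_pure, ← dot_pure, ← kr_pure, ← kr_pure, hp]
  set e : Fv := Pi.single 0 1
  have hee : e ⬝ᵥ e = 1 := by simp [e]
  set μ := (Units.val a) *ᵥ e ⬝ᵥ (Units.val a) *ᵥ e with hμ
  have h1 := hab e e e e
  rw [hee, mul_one, ← hμ] at h1
  have hμ0 : μ ≠ 0 := fun h0 => by rw [h0, zero_mul] at h1; exact zero_ne_one h1
  have hb : ∀ w w', (Units.val b) *ᵥ w ⬝ᵥ (Units.val b) *ᵥ w' = μ⁻¹ * (w ⬝ᵥ w') := fun w w' => by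
    have := hab e w e w'
    rw [hee, one_mul, ← hμ] at this
    rw [← this, inv_mul_cancel_left₀ hμ0]
  have ha : ∀ u u', (Units.val a) *ᵥ u ⬝ᵥ (Units.val a) *ᵥ u' = μ * (u ⬝ᵥ u') := fun u u' => by
    have := hab u e u' e
    rw [hb, hee, mul_one, mul_one] at this
    rw [← this, ← mul_assoc, mul_comm μ, mul_assoc, mul_inv_cancel₀ hμ0, mul_one]
  have key : ∀ (m : F) (A : Matrix (Fin 3) (Fin 3) F), (∀ u u', A *ᵥ u ⬝ᵥ A *ᵥ u' = m * (u ⬝ᵥ u')) →
      Aᵀ * A = m • 1 := fun m A hA => Matrix.ext fun i j => by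
    have := hA (Pi.single i 1) (Pi.single j 1)
    rw [mulVec_single_one, mulVec_single_one, single_dotProduct, one_mul] at this
    simp only [Matrix.smul_apply, smul_eq_mul, Matrix.mul_apply, Matrix.transpose_apply]
    rw [Matrix.one_apply]
    convert this using 1
    · simp [dotProduct, Matrix.col]
    · congr 1
      simp [Pi.single_apply]
  exact ⟨μ, hμ0, key _ _ ha, key _ _ hb⟩

end

/-- an overgroup of the wreath stabiliser without central elements -/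
structure Data {F : Type*} [Field F] [Fintype F] (M : Subgroup (GL (Fin 3 × Fin 3) F)) : Prop where
  hO : Over (qd : QuadraticForm F (Fin 3 → F)) qd qd M
  hN : NoCentral (qd : QuadraticForm F (Fin 3 → F)) M
  hO' : Over (qd : QuadraticForm F (Fin 3 → F)) qd qd (swp M)
  hN' : NoCentral (qd : QuadraticForm F (Fin 3 → F)) (swp M)
  hswap : ∃ a b, kr a b * sw ∈ M

section
variable {M : Subgroup (GL (Fin 3 × Fin 3) F)} (D : Data M)
include D

theorem Data.symm : Data (swp M) := by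
  refine ⟨D.hO', D.hN', by rw [swp_swp]; exact D.hO, by rw [swp_swp]; exact D.hN, ?_⟩
  obtain ⟨a, b, h⟩ := D.hswap
  exact ⟨b, a, by rw [mem_swp, ← mul_assoc, sw_kr]; exact h⟩

theorem Data.two : (2 : F) ≠ 0 := D.hO.setup.two

theorem Data.five : 5 ≤ Fintype.card F := D.hO.setup.exU.resolve_right (by omega)

theorem Data.dot {g : G9} (hg : g ∈ M) (x y : Vv) :
    (Units.val g) *ᵥ x ⬝ᵥ (Units.val g) *ᵥ y = x ⬝ᵥ y := by
  rw [← polar_qd D.two, ← polar_qd D.two, polar_M D.hO hg]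

theorem Data.iso {g : G9} (hg : g ∈ M) (x : Vv) : Q₉ ((Units.val g) *ᵥ x) = Q₉ x := map_M D.hO hg x

theorem Data.sing {u : Fv} (hu : u ⬝ᵥ u = 0) : Q₃ u = 0 := by rw [qd_apply, hu, mul_zero]

/-- the unipotent elements of the first slot -/
theorem Data.left_mem {u c p : Fv} (hf : Fr u c p) (b : F) :
    ∃ a : GL (Fin 3) F, (Units.val a) = emap u c b ∧ kr a (1 : GL (Fin 3) F) ∈ M := by
  have huc : QuadraticMap.polar Q₃ u (b • c) = 0 := by
    rw [polar_qd D.two, dotProduct_smul, hf.uc, smul_zero]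
  refine ⟨(eich u (b • c) (D.sing hf.uu) huc : GL (Fin 3) F), ?_,
    OrthOrth.left_mem D.hO (eich_mem _ _ Submodule.mem_top Submodule.mem_top)⟩
  refine Matrix.ext_of_mulVec_single fun i => ?_
  generalize (Pi.single i (1 : F) : Fv) = x
  rw [← act_apply, act_eich, emap_mulVec, polar_qd D.two, polar_qd D.two, dotProduct_smul, qd_apply,
    dotProduct_smul, smul_dotProduct, hf.cc, dotProduct_comm x u, dotProduct_comm x c]
  simp only [smul_eq_mul]
  have := D.two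
  match_scalars <;> field_simp <;> ring

theorem Data.right_mem {u c p : Fv} (hf : Fr u c p) (b : F) :
    ∃ a : GL (Fin 3) F, (Units.val a) = emap u c b ∧ kr (1 : GL (Fin 3) F) a ∈ M := by
  obtain ⟨a, h, hm⟩ := D.symm.left_mem hf b
  rw [mem_swp, sw_kr] at hm
  exact ⟨a, h, hm⟩

theorem Data.slot_right {g : G9} (hg : g ∈ M) {f₁ f₂ : Fv} (h1 : f₁ ≠ 0) (hf₁ : f₁ ⬝ᵥ f₁ = 0) (h2 : f₂ ≠ 0)
    (hf₂ : f₂ ⬝ᵥ f₂ = 0) (h : ∀ u, ∃ p, (Units.val g) *ᵥ pure u f₁ = pure p f₂) : g ∈ Kr :=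
  slot_kron_of D.hO D.hN hg h1 (D.sing hf₁) h2 (D.sing hf₂) h

theorem Data.slot_left {g : G9} (hg : g ∈ M) {e₁ e₂ : Fv} (h1 : e₁ ≠ 0) (he₁ : e₁ ⬝ᵥ e₁ = 0) (h2 : e₂ ≠ 0)
    (he₂ : e₂ ⬝ᵥ e₂ = 0) (h : ∀ w, ∃ p, (Units.val g) *ᵥ pure e₁ w = pure e₂ p) : g ∈ Kr := by
  have h' := D.symm.slot_right (g := sw * g * sw) (mem_swp.2 (by rwa [sw_sw])) h1 he₁ h2 he₂ fun u => by
    obtain ⟨p, hp⟩ := h u
    exact ⟨p, by rw [mulVec_mul_GL, mulVec_mul_GL, sw_pure, hp, sw_pure]⟩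
  simpa [sw_sw] using sw_kron h'

theorem Data.slot_cross {g : G9} (hg : g ∈ M) {f e : Fv} (hf0 : f ≠ 0) (hf : f ⬝ᵥ f = 0) (he0 : e ≠ 0)
    (he : e ⬝ᵥ e = 0) (h : ∀ u, ∃ p, (Units.val g) *ᵥ pure u f = pure e p) : g ∈ (Wr : Subgroup G9) := by
  obtain ⟨a, b, ht⟩ := D.hswap
  set f₂ := (Units.val b) *ᵥ e
  have hf₂0 : f₂ ≠ 0 := fun h0 => he0 (mulVec_inj b (h0.trans (mulVec_zero _).symm))
  have hf₂ : f₂ ⬝ᵥ f₂ = 0 := by
    set w : Fv := Pi.single 0 1
    have hw : (Units.val a) *ᵥ w ≠ 0 := fun h0 => by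
      have := mulVec_inj a (h0.trans (mulVec_zero _).symm)
      simpa [w] using congrFun this 0
    obtain ⟨z, hz⟩ : ∃ z, (Units.val a) *ᵥ w ⬝ᵥ (Units.val a) *ᵥ z ≠ 0 := by
      by_contra hc
      push Not at hc
      refine hw (dotProduct_eq_zero _ fun y => ?_)
      rw [← mulVec_inv_cancel a y]
      exact hc _
    have h1 := D.dot ht (pure e w) (pure e z)
    rw [mulVec_mul_GL, mulVec_mul_GL, sw_pure, sw_pure, kr_pure, kr_pure, dot_pure, dot_pure, he, zero_mul] at h1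
    exact (mul_eq_zero.1 h1).resolve_left hz
  have h3 : kr a b * sw * g ∈ Kr := D.slot_right (mul_mem ht hg) hf0 hf hf₂0 hf₂ fun u => by
    obtain ⟨p, hp⟩ := h u
    exact ⟨(Units.val a) *ᵥ p, by rw [mulVec_mul_GL, hp, mulVec_mul_GL, sw_pure, kr_pure]⟩
  have h4 : kr a b * sw ∈ (Wr : Subgroup G9) := Or.inr (by rw [mul_assoc, sw_mul_self, mul_one]; exact kr_mem_kron a b)
  have := mul_mem (inv_mem h4) (show kr a b * sw * g ∈ (Wr : Subgroup G9) from Or.inl h3)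
  rwa [inv_mul_cancel_left] at this

theorem Data.slot_cross' {g : G9} (hg : g ∈ M) {e f : Fv} (he0 : e ≠ 0) (he : e ⬝ᵥ e = 0) (hf0 : f ≠ 0)
    (hf : f ⬝ᵥ f = 0) (h : ∀ w, ∃ p, (Units.val g) *ᵥ pure e w = pure p f) : g ∈ (Wr : Subgroup G9) := by
  have h' := D.symm.slot_cross (g := sw * g * sw) (mem_swp.2 (by rwa [sw_sw])) he0 he hf0 hf fun u => by
    obtain ⟨p, hp⟩ := h u
    exact ⟨p, by rw [mulVec_mul_GL, mulVec_mul_GL, sw_pure, hp, sw_pure]⟩
  simpa [sw_sw] using sw_Wr h'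

end

end Cfsg.Agent.Forms.Max.NineTensor
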