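import Mathlib

/-!
# The orthogonal group of the dot product in dimension three
-/

set_option autoImplicit false
set_option linter.unusedSectionVars false

namespace Cfsg.Agent.Forms.Max.NineTensor

open Matrix

variable {F : Type*} [Field F]

/-- a singular pair and the vector orthogonal to it -/
structure Fr (u c p : Fin 3 → F) : Prop where
  uu : u ⬝ᵥ u = 0
  pp : p ⬝ᵥ p = 0
  up : u ⬝ᵥ p = 1
  uc : u ⬝ᵥ c = 0
  pc : p ⬝ᵥ c = 0
  cc : c ⬝ᵥ c = -1

/-- all the products of a frame, for simplification -/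
theorem Fr.rel {u c p : Fin 3 → F} (h : Fr u c p) :
    u ⬝ᵥ u = 0 ∧ p ⬝ᵥ p = 0 ∧ u ⬝ᵥ p = 1 ∧ p ⬝ᵥ u = 1 ∧ u ⬝ᵥ c = 0 ∧ c ⬝ᵥ u = 0 ∧ p ⬝ᵥ c = 0 ∧
      c ⬝ᵥ p = 0 ∧ c ⬝ᵥ c = -1 :=
  ⟨h.uu, h.pp, h.up, by rw [dotProduct_comm, h.up], h.uc, by rw [dotProduct_comm, h.uc], h.pc,
    by rw [dotProduct_comm, h.pc], h.cc⟩

theorem Fr.swap {u c p : Fin 3 → F} (h : Fr u c p) : Fr p c u :=
  ⟨h.pp, h.uu, by rw [dotProduct_comm, h.up], h.pc, h.uc, h.cc⟩

theorem Fr.scale {u c p : Fin 3 → F} (h : Fr u c p) {s : F} (hs : s ≠ 0) : Fr (s • u) c (s⁻¹ • p) := by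
  refine ⟨?_, ?_, ?_, ?_, ?_, h.cc⟩ <;>
    simp [h.uu, h.pp, h.up, h.uc, h.pc, hs]

theorem Fr.expand {u c p : Fin 3 → F} (h : Fr u c p) (x : Fin 3 → F) :
    x = (x ⬝ᵥ p) • u - (x ⬝ᵥ c) • c + (x ⬝ᵥ u) • p := by
  obtain ⟨r1, r2, r3, r4, r5, r6, r7, r8, r9⟩ := h.rel
  let A : Matrix (Fin 3) (Fin 3) F := Matrix.of ![u, c, p]
  let J : Matrix (Fin 3) (Fin 3) F := !![0, 0, 1; 0, -1, 0; 1, 0, 0]
  have hA : A * Aᵀ = J := by
    ext i j
    show ![u, c, p] i ⬝ᵥ ![u, c, p] j = _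
    fin_cases i <;> fin_cases j <;> simp [J, r1, r2, r3, r4, r5, r6, r7, r8, r9]
  have hJ : J * J = 1 := by
    ext i j
    fin_cases i <;> fin_cases j <;> simp [J, Matrix.mul_apply, Fin.sum_univ_three]
  have h1 : A * (Aᵀ * J) = 1 := by rw [← mul_assoc, hA, hJ]
  have h2 : Aᵀ * J * A = 1 := mul_eq_one_comm.1 h1
  conv_lhs => rw [← Matrix.one_mulVec x, ← h2, ← Matrix.mulVec_mulVec, ← Matrix.mulVec_mulVec]
  funext i
  simp [A, J, Matrix.mulVec, dotProduct, Fin.sum_univ_three]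
  ring

theorem Fr.ne {u c p : Fin 3 → F} (h : Fr u c p) : u ≠ 0 := fun e => by
  have := h.up
  rw [e, zero_dotProduct] at this
  exact zero_ne_one this

theorem Fr.cne {u c p : Fin 3 → F} (h : Fr u c p) : c ≠ 0 := fun e => by
  have := h.cc
  rw [e, zero_dotProduct] at this
  exact one_ne_zero (neg_eq_zero.1 this.symm)

theorem exists_frame (h2 : (2 : F) ≠ 0) {u : Fin 3 → F} (hu : u ≠ 0) (huu : u ⬝ᵥ u = 0) :
    ∃ c p, Fr u c p := by
  obtain ⟨i, hi⟩ := Function.ne_iff.1 hu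
  set w : Fin 3 → F := (u i)⁻¹ • Pi.single i 1 with hw
  have huw : u ⬝ᵥ w = 1 := by
    rw [hw, dotProduct_smul, dotProduct_single, mul_one, smul_eq_mul, inv_mul_cancel₀ hi]
  set p := w - (w ⬝ᵥ w / 2) • u with hp
  have hwu : w ⬝ᵥ u = 1 := by rw [dotProduct_comm, huw]
  have hup : u ⬝ᵥ p = 1 := by simp [hp, huu, huw]
  have hpp : p ⬝ᵥ p = 0 := by
    simp [hp, huu, huw, hwu]
    field_simp
    ring
  refine ⟨crossProduct u p, p, huu, hpp, hup, dot_self_cross u p, dot_cross_self u p, ?_⟩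
  rw [cross_dot_cross, huu, hpp, hup, dotProduct_comm p u, hup]
  ring

theorem exists_sing [Fintype F] (h2 : (2 : F) ≠ 0) : ∃ u : Fin 3 → F, u ≠ 0 ∧ u ⬝ᵥ u = 0 := by
  obtain ⟨a, b, hab⟩ := FiniteField.exists_root_sum_quadratic (R := F)
    (f := Polynomial.X ^ 2) (g := Polynomial.X ^ 2 + Polynomial.C 1) (Polynomial.degree_X_pow 2)
    (Polynomial.degree_X_pow_add_C (by norm_num) 1) (FiniteField.odd_card_of_char_ne_two fun e => by
      haveI : CharP F 2 := e ▸ ringChar.charP F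
      exact h2 CharTwo.two_eq_zero)
  refine ⟨![a, b, 1], fun h => one_ne_zero (α := F) (by simpa using congrFun h 2), ?_⟩
  simp at hab
  simp [dotProduct, Fin.sum_univ_three]
  linear_combination hab

theorem exists_frame₀ [Fintype F] (h2 : (2 : F) ≠ 0) : ∃ u c p : Fin 3 → F, Fr u c p := by
  obtain ⟨u, hu, huu⟩ := exists_sing (F := F) h2
  exact ⟨u, exists_frame h2 hu huu⟩

/-- polynomial maps of degree four vanish only trivially -/
theorem quartic_zero [Fintype F] (hq : 5 ≤ Fintype.card F) {a₀ a₁ a₂ a₃ a₄ : F}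
    (h : ∀ b : F, a₀ + a₁ * b + a₂ * b ^ 2 + a₃ * b ^ 3 + a₄ * b ^ 4 = 0) :
    a₀ = 0 ∧ a₁ = 0 ∧ a₂ = 0 ∧ a₃ = 0 ∧ a₄ = 0 := by
  set P : Polynomial F := Polynomial.C a₀ + Polynomial.C a₁ * Polynomial.X + Polynomial.C a₂ * Polynomial.X ^ 2 +
    Polynomial.C a₃ * Polynomial.X ^ 3 + Polynomial.C a₄ * Polynomial.X ^ 4 with hP
  have h0 : P = 0 := Polynomial.eq_zero_of_natDegree_lt_card_of_eval_eq_zero P (f := id) Function.injective_id
    (fun b => by simpa [hP] using h b)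
    (lt_of_le_of_lt (b := 4) (by rw [hP]; compute_degree) (by omega))
  refine ⟨?_, ?_, ?_, ?_, ?_⟩
  · simpa [hP, Polynomial.coeff_X] using congrArg (Polynomial.coeff · 0) h0
  · simpa [hP, Polynomial.coeff_X] using congrArg (Polynomial.coeff · 1) h0
  · simpa [hP, Polynomial.coeff_X] using congrArg (Polynomial.coeff · 2) h0
  · simpa [hP, Polynomial.coeff_X] using congrArg (Polynomial.coeff · 3) h0
  · simpa [hP, Polynomial.coeff_X] using congrArg (Polynomial.coeff · 4) h0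

/-- the unipotent element of a frame, as a map -/
def emap (u c : Fin 3 → F) (b : F) : Matrix (Fin 3) (Fin 3) F :=
  1 + b • (vecMulVec c u - vecMulVec u c) + (b ^ 2 / 2) • vecMulVec u u

theorem emap_mulVec (u c : Fin 3 → F) (b : F) (x : Fin 3 → F) :
    emap u c b *ᵥ x = x + b • ((u ⬝ᵥ x) • c - (c ⬝ᵥ x) • u) + (b ^ 2 / 2 * (u ⬝ᵥ x)) • u := by
  simp only [emap, add_mulVec, one_mulVec, smul_mulVec, sub_mulVec, vecMulVec_mulVec, op_smul_eq_smul]
  module

theorem emap_transpose (u c : Fin 3 → F) (b : F) : (emap u c b)ᵀ = emap u c (-b) := by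
  simp only [emap, transpose_add, transpose_one, transpose_smul, transpose_sub, transpose_vecMulVec]
  rw [neg_sq, neg_smul, ← smul_neg, neg_sub]

theorem emap_zero (u c : Fin 3 → F) : emap u c (0 : F) = 1 := by simp [emap]

theorem Fr.emap_mul (h2 : (2 : F) ≠ 0) {u c p : Fin 3 → F} (h : Fr u c p) (a b : F) :
    emap u c a * emap u c b = emap u c (a + b) := by
  refine Matrix.ext_of_mulVec_single fun i => ?_
  generalize (Pi.single i (1 : F) : Fin 3 → F) = x
  obtain ⟨r1, r2, r3, r4, r5, r6, r7, r8, r9⟩ := h.rel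
  rw [← mulVec_mulVec, emap_mulVec, emap_mulVec, emap_mulVec]
  simp only [dotProduct_add, dotProduct_sub, dotProduct_smul, smul_eq_mul, r1, r5, r6, r9]
  match_scalars <;> field_simp <;> ring

/-- powers of a unipotent element -/
theorem Fr.emap_pow (h2 : (2 : F) ≠ 0) {u c p : Fin 3 → F} (h : Fr u c p) (b : F) (m : ℕ) :
    emap u c b ^ m = emap u c (m * b) := by
  induction m with
  | zero => rw [pow_zero, Nat.cast_zero, zero_mul, emap_zero]
  | succ m ih => rw [pow_succ, ih, h.emap_mul h2, Nat.cast_succ, add_mul, one_mul]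

/-- the image of the frame under a unipotent element -/
theorem Fr.emap_frame {u c p : Fin 3 → F} (h : Fr u c p) (b : F) :
    emap u c b *ᵥ u = u ∧ emap u c b *ᵥ c = c + b • u ∧
      emap u c b *ᵥ p = p + b • c + (b ^ 2 / 2) • u := by
  obtain ⟨r1, r2, r3, r4, r5, r6, r7, r8, r9⟩ := h.rel
  refine ⟨?_, ?_, ?_⟩ <;> rw [emap_mulVec] <;> simp [r1, r3, r5, r6, r8, r9]

/-- the square of the displacement -/
theorem Fr.emap_sq {u c p : Fin 3 → F} (h : Fr u c p) (b : F) (x : Fin 3 → F) :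
    (emap u c b - 1) *ᵥ ((emap u c b - 1) *ᵥ x) = (b ^ 2 * (u ⬝ᵥ x)) • u := by
  obtain ⟨r1, r2, r3, r4, r5, r6, r7, r8, r9⟩ := h.rel
  obtain ⟨e1, e2, e3⟩ := h.emap_frame b
  conv_lhs => rw [h.expand x]
  simp only [sub_mulVec, one_mulVec, mulVec_add, mulVec_sub, mulVec_smul, e1, e2, e3]
  rw [dotProduct_comm x u, dotProduct_comm x p, dotProduct_comm x c]
  module

/-- half of the dot product -/
def qd {ι : Type} [Fintype ι] : QuadraticForm F (ι → F) :=
  LinearMap.BilinMap.toQuadraticMap (LinearMap.mk₂ F (fun x y : ι → F => 2⁻¹ * (x ⬝ᵥ y))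
    (fun x x' y => by rw [add_dotProduct]; ring) (fun a x y => by rw [smul_dotProduct, smul_eq_mul, smul_eq_mul]; ring)
    (fun x y y' => by rw [dotProduct_add]; ring) (fun a x y => by rw [dotProduct_smul, smul_eq_mul, smul_eq_mul]; ring))

theorem qd_apply {ι : Type} [Fintype ι] (x : ι → F) : (qd : QuadraticForm F (ι → F)) x = 2⁻¹ * (x ⬝ᵥ x) := rfl

theorem polar_qd {ι : Type} [Fintype ι] (h2 : (2 : F) ≠ 0) (x y : ι → F) :
    QuadraticMap.polar (qd : QuadraticForm F (ι → F)) x y = x ⬝ᵥ y := by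
  simp only [QuadraticMap.polar, qd_apply, add_dotProduct, dotProduct_add, dotProduct_comm y x]
  field_simp
  ring

theorem qd_nondeg {ι : Type} [Fintype ι] [DecidableEq ι] (h2 : (2 : F) ≠ 0) :
    (QuadraticMap.polarBilin (qd : QuadraticForm F (ι → F))).Nondegenerate := by
  refine ⟨fun x hx => dotProduct_eq_zero _ fun y => ?_, fun y hy => dotProduct_eq_zero _ fun x => ?_⟩
  · rw [← polar_qd h2]; exact hx y
  · rw [dotProduct_comm, ← polar_qd h2]; exact hy x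

/-- the frame element is an element of the frame, if it fixes its singular vector -/
theorem Fr.eq_emap (h2 : (2 : F) ≠ 0) {u c p : Fin 3 → F} (hf : Fr u c p) {A : Matrix (Fin 3) (Fin 3) F}
    (hA : Aᵀ * A = 1) {N : ℕ} (hN : (A - 1) ^ N = 0) (hAu : A *ᵥ u = u) : ∃ b, A = emap u c b := by
  obtain ⟨r1, r2, r3, r4, r5, r6, r7, r8, r9⟩ := hf.rel
  have hdot : ∀ x y, A *ᵥ x ⬝ᵥ A *ᵥ y = x ⬝ᵥ y := fun x y => by
    rw [dotProduct_mulVec, ← mulVec_transpose, mulVec_mulVec, hA, one_mulVec]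
  have hd : ∀ x, u ⬝ᵥ A *ᵥ x = u ⬝ᵥ x := fun x => by nth_rewrite 1 [← hAu]; exact hdot _ _
  -- the action on `c`
  set ε := -(c ⬝ᵥ A *ᵥ c) with hε
  set s := p ⬝ᵥ A *ᵥ c with hs
  have hc : A *ᵥ c = s • u + ε • c := by
    conv_lhs => rw [hf.expand (A *ᵥ c)]
    rw [dotProduct_comm _ p, dotProduct_comm _ c, dotProduct_comm _ u, hd, r5]
    module
  have hεε : ε = 1 := by
    have hpow : ∀ m : ℕ, c ⬝ᵥ (A - 1) ^ m *ᵥ c = -(ε - 1) ^ m := fun m => by
      have e : ∃ t : F, (A - 1) ^ m *ᵥ c = t • u + (ε - 1) ^ m • c := by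
        induction m with
        | zero => exact ⟨0, by simp⟩
        | succ m ih =>
          obtain ⟨t, ht⟩ := ih
          refine ⟨(ε - 1) ^ m * s, ?_⟩
          rw [pow_succ', ← mulVec_mulVec, ht, mulVec_add, mulVec_smul, mulVec_smul, sub_mulVec, sub_mulVec, one_mulVec,
            one_mulVec, hAu, hc]
          module
      obtain ⟨t, ht⟩ := e
      rw [ht]
      simp [r6, r9]
    have := hpow N
    rw [hN, zero_mulVec, dotProduct_zero, eq_comm, neg_eq_zero] at this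
    exact sub_eq_zero.1 (pow_eq_zero_iff'.1 this).1
  have hApu : u ⬝ᵥ A *ᵥ p = 1 := by rw [hd, r3]
  have hApc : c ⬝ᵥ A *ᵥ p = -s := by
    have := hdot c p
    rw [r8, hc, hεε, one_smul, add_dotProduct, smul_dotProduct, hApu, smul_eq_mul, mul_one] at this
    linear_combination this
  have hApp : p ⬝ᵥ A *ᵥ p = s ^ 2 / 2 := by
    have := hdot p p
    rw [r2] at this
    rw [hf.expand (A *ᵥ p), dotProduct_comm _ p, dotProduct_comm _ c, dotProduct_comm _ u, hApu, hApc] at this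
    simp [r1, r2, r3, r4, r5, r6, r7, r8, r9] at this
    field_simp
    linear_combination this
  have heq : A = emap u c s := by
    refine Matrix.ext_of_mulVec_single fun j => ?_
    generalize (Pi.single j (1 : F) : Fin 3 → F) = x
    rw [hf.expand x]
    have hp : A *ᵥ p = (s ^ 2 / 2) • u + s • c + p := by
      conv_lhs => rw [hf.expand (A *ᵥ p)]
      rw [dotProduct_comm _ p, dotProduct_comm _ c, dotProduct_comm _ u, hApp, hApc, hApu]
      module
    simp only [mulVec_add, mulVec_sub, mulVec_smul, hAu, hc, hεε, hp, emap_mulVec, r1, r3, r4, r5, r6, r8, r9]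
    module
  exact ⟨s, heq⟩

/-- a unipotent orthogonal matrix is trivial or an element of a frame -/
theorem exists_emap (h2 : (2 : F) ≠ 0) {A : Matrix (Fin 3) (Fin 3) F} (hA : Aᵀ * A = 1) {N : ℕ}
    (hN : (A - 1) ^ N = 0) : A = 1 ∨ ∃ u c p, ∃ _ : Fr u c p, ∃ b : F, b ≠ 0 ∧ A = emap u c b := by
  classical
  by_cases h1 : A = 1
  · exact Or.inl h1
  right
  have hex : ∃ n, (A - 1) ^ n = 0 := ⟨N, hN⟩
  set n := Nat.find hex
  have hn : (A - 1) ^ n = 0 := Nat.find_spec hex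
  have hn2 : 2 ≤ n := by
    by_contra hc
    rcases Nat.lt_or_ge n 1 with h | h
    · rw [show n = 0 by omega, pow_zero] at hn
      exact one_ne_zero hn
    · rw [show n = 1 by omega, pow_one, sub_eq_zero] at hn
      exact h1 hn
  have hne : (A - 1) ^ (n - 1) ≠ 0 := Nat.find_min hex (by omega)
  obtain ⟨i, hi⟩ : ∃ i, (A - 1) ^ (n - 1) *ᵥ Pi.single i 1 ≠ 0 := by
    by_contra hc
    push Not at hc
    exact hne (Matrix.ext_of_mulVec_single fun i => by rw [hc, zero_mulVec])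
  set w := (A - 1) ^ (n - 2) *ᵥ Pi.single i 1
  set u := (A - 1) ^ (n - 1) *ᵥ (Pi.single i 1 : Fin 3 → F) with hu
  have huw : u = (A - 1) *ᵥ w := by
    rw [hu, mulVec_mulVec, ← pow_succ', show n - 2 + 1 = n - 1 by omega]
  have hAu : A *ᵥ u = u := by
    rw [← sub_eq_zero, show A *ᵥ u - u = (A - 1) *ᵥ u by rw [sub_mulVec, one_mulVec], hu, mulVec_mulVec, ← pow_succ',
      show n - 1 + 1 = n by omega, hn, zero_mulVec]
  have hdot : ∀ x y, A *ᵥ x ⬝ᵥ A *ᵥ y = x ⬝ᵥ y := fun x y => by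
    rw [dotProduct_mulVec, ← mulVec_transpose, mulVec_mulVec, hA, one_mulVec]
  have huu : u ⬝ᵥ u = 0 := by
    nth_rewrite 2 [huw]
    rw [sub_mulVec, one_mulVec, dotProduct_sub]
    nth_rewrite 1 [← hAu]
    rw [hdot, sub_self]
  obtain ⟨c, p, hf⟩ := exists_frame h2 hi huu
  obtain ⟨s, heq⟩ := hf.eq_emap h2 hA hN hAu
  refine ⟨u, c, p, hf, s, fun e => h1 ?_, heq⟩
  rw [heq, e, emap_zero]

end Cfsg.Agent.Forms.Max.NineTensor
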