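import Cfsg.Agent.Lib.Forms.Max.NineTensor.Basic

/-!
# The stabiliser controls the fusion of the root elements of the factors
-/

set_option autoImplicit false
set_option linter.unusedSectionVars false

namespace Cfsg.Agent.Forms.Max.NineTensor

open Matrix Cfsg.Agent.Aschbacher Cfsg.Agent.Forms.Max.TensorMax
open Cfsg.Agent.Forms.Max.TensorRes (kr_mem_kron exists_kr)
open Cfsg.Agent.Forms.Max.TensorRes.Unitary (pure_add_left pure_smul_left pure_add_right pure_smul_right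
  pure_zero_left pure_zero_right pure_ne_zero)

variable {F : Type*} [Field F] [Fintype F]

local notation "Fv" => (Fin 3 → F)
local notation "Vv" => (Fin 3 × Fin 3 → F)
local notation "G9" => GL (Fin 3 × Fin 3) F
local notation "Kr" => Cfsg.Geo.kroneckerSubgroup 3 3 F
local notation "M3" => Matrix (Fin 3) (Fin 3) F

/-- orthogonal and unipotent -/
def OrthUnip (A : Matrix (Fin 3) (Fin 3) F) : Prop := Aᵀ * A = 1 ∧ ∃ N, (A - 1) ^ N = 0

/-- the second displacement -/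
def sq2 (g : GL (Fin 3 × Fin 3) F) (y : Fin 3 × Fin 3 → F) : Fin 3 × Fin 3 → F :=
  (Units.val g) *ᵥ ((Units.val g) *ᵥ y) - (2 : F) • ((Units.val g) *ᵥ y) + y

theorem sq2_rel {g X Y : G9} (h : g * X = Y * g) (y : Vv) :
    sq2 Y ((Units.val g) *ᵥ y) = (Units.val g) *ᵥ sq2 X y := by
  have e : ∀ v, (Units.val Y) *ᵥ ((Units.val g) *ᵥ v) = (Units.val g) *ᵥ ((Units.val X) *ᵥ v) := fun v => by
    rw [← mulVec_mul_GL, ← h, mulVec_mul_GL]
  simp only [sq2, mulVec_add, mulVec_sub, mulVec_smul, e]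

theorem left_sq_pure {u c p : Fv} (hf : Fr u c p) {a : GL (Fin 3) F} {b : F} (ha : Units.val a = emap u c b)
    (v w : Fv) : sq2 (kr a (1 : GL (Fin 3) F)) (pure v w) = (b ^ 2 * (u ⬝ᵥ v)) • pure u w := by
  have h := hf.emap_sq b v
  rw [sq2, kr_pure, kr_pure, Units.val_one, one_mulVec, one_mulVec, ha]
  funext ⟨i, j⟩
  have h' := congrFun h i
  simp only [sub_mulVec, one_mulVec, mulVec_sub, Pi.sub_apply, Pi.smul_apply, smul_eq_mul] at h'
  simp only [TensorMax.pure, Pi.add_apply, Pi.sub_apply, Pi.smul_apply, smul_eq_mul]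
  linear_combination w j * h'

theorem left_sq {u c p : Fv} (hf : Fr u c p) {a : GL (Fin 3) F} {b : F} (ha : Units.val a = emap u c b) (y : Vv) :
    ∃ q, sq2 (kr a (1 : GL (Fin 3) F)) y = pure u q := by
  refine ⟨∑ i, (b ^ 2 * (u ⬝ᵥ Pi.single i 1)) • row y i, ?_⟩
  have e : sq2 (kr a (1 : GL (Fin 3) F)) y =
      ∑ i, sq2 (kr a (1 : GL (Fin 3) F)) (pure (Pi.single i 1) (row y i)) := by
    simp only [sq2, Finset.sum_add_distrib, Finset.sum_sub_distrib, ← Finset.smul_sum, ← mulVec_sum,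
      ← TensorMax.sum_rows]
  rw [e, ← pureL_apply, map_sum]
  exact Finset.sum_congr rfl fun i _ => by rw [left_sq_pure hf ha, pureL_apply, pure_smul_right]

theorem right_sq_pure {u c p : Fv} (hf : Fr u c p) {a : GL (Fin 3) F} {b : F} (ha : Units.val a = emap u c b)
    (v w : Fv) : sq2 (kr (1 : GL (Fin 3) F) a) (pure v w) = (b ^ 2 * (u ⬝ᵥ w)) • pure v u := by
  have h := congrArg (fun z => (Units.val (sw : G9)) *ᵥ z) (left_sq_pure hf ha w v)
  simp only [mulVec_smul, sw_pure] at h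
  rw [← h, ← sw_kr a 1]
  simp only [sq2, mulVec_mul_GL, mulVec_add, mulVec_sub, mulVec_smul, sw_pure]
  have e : ∀ z : Vv, (Units.val (sw : G9)) *ᵥ ((Units.val (sw : G9)) *ᵥ z) = z := fun z => by
    rw [← mulVec_mul_GL, sw_mul_self, Units.val_one, one_mulVec]
  rw [e]

/-- scalar Kronecker products -/
theorem kr_eq_kr {a a' b b' : GL (Fin 3) F} (h : kr a b = kr a' b') :
    ∃ s : F, s ≠ 0 ∧ Units.val a = s • Units.val a' ∧ Units.val b = s⁻¹ • Units.val b' := by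
  have hp : ∀ u w i j, ((Units.val a) *ᵥ u) i * ((Units.val b) *ᵥ w) j =
      ((Units.val a') *ᵥ u) i * ((Units.val b') *ᵥ w) j := fun u w i j => by
    have := congrFun (congrArg (fun g : G9 => (Units.val g) *ᵥ pure u w) h) (i, j)
    simpa [kr_pure, TensorMax.pure] using this
  set e : Fv := Pi.single 0 1
  obtain ⟨j, hj⟩ : ∃ j, ((Units.val b) *ᵥ e) j ≠ 0 := Function.ne_iff.1 fun h0 => by
    simpa [e] using congrFun (mulVec_inj b (h0.trans (mulVec_zero _).symm)) 0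
  set s := ((Units.val b') *ᵥ e) j / ((Units.val b) *ᵥ e) j with hs
  have ha : Units.val a = s • Units.val a' := Matrix.ext_of_mulVec_single fun i => by
    rw [smul_mulVec]
    funext k
    have := hp (Pi.single i 1) e k j
    rw [Pi.smul_apply, smul_eq_mul, hs, div_mul_eq_mul_div, eq_div_iff hj]
    linear_combination this
  obtain ⟨k, hk⟩ : ∃ k, ((Units.val a) *ᵥ e) k ≠ 0 := Function.ne_iff.1 fun h0 => by
    simpa [e] using congrFun (mulVec_inj a (h0.trans (mulVec_zero _).symm)) 0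
  have hak : ((Units.val a) *ᵥ e) k = s * ((Units.val a') *ᵥ e) k := by
    rw [ha, smul_mulVec]; rfl
  have hs0 : s ≠ 0 := fun h0 => hk (by rw [hak, h0, zero_mul])
  refine ⟨s, hs0, ha, Matrix.ext_of_mulVec_single fun i => ?_⟩
  rw [smul_mulVec]
  funext l
  have := hp e (Pi.single i 1) k l
  rw [hak] at this
  rw [Pi.smul_apply, smul_eq_mul, eq_inv_mul_iff_mul_eq₀ hs0]
  refine mul_left_cancel₀ (show ((Units.val a') *ᵥ e) k ≠ 0 from fun h0 => hk (by rw [hak, h0, mul_zero])) ?_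
  linear_combination this

/-- commuting Kronecker products of unipotent isometries -/
theorem comm_of_kr {a a' b b' : GL (Fin 3) F} (ha : OrthUnip (Units.val a)) (ha' : OrthUnip (Units.val a'))
    (h : kr a b * kr a' b' = kr a' b' * kr a b) :
    Units.val a * Units.val a' = Units.val a' * Units.val a ∧
      Units.val b * Units.val b' = Units.val b' * Units.val b := by
  rw [kr_mul, kr_mul] at h
  obtain ⟨s, hs, e1, e2⟩ := kr_eq_kr h
  rw [Units.val_mul, Units.val_mul] at e1 e2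
  have ho : ∀ {A A' : M3}, Aᵀ * A = 1 → A'ᵀ * A' = 1 → (A * A')ᵀ * (A * A') = 1 := fun {A A'} h1 h2 => by
    rw [transpose_mul, mul_assoc, ← mul_assoc Aᵀ, h1, one_mul, h2]
  have h2 := ho ha.1 ha'.1
  rw [e1, transpose_smul, smul_mul_assoc, mul_smul_comm, ho ha'.1 ha.1, smul_smul] at h2
  have hs2 : s * s = 1 := by simpa using congrFun (congrFun h2 0) 0
  have h3 := congrArg Matrix.det e1
  rw [det_smul, det_mul, det_mul, mul_comm (det (Units.val a')), Fintype.card_fin] at h3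
  have hd : det (Units.val a) * det (Units.val a') ≠ 0 :=
    mul_ne_zero ((Matrix.isUnit_iff_isUnit_det _).1 a.isUnit).ne_zero ((Matrix.isUnit_iff_isUnit_det _).1 a'.isUnit).ne_zero
  have hs3 : s ^ 3 = 1 := mul_right_cancel₀ hd (by rw [one_mul]; exact h3.symm)
  have hs1 : s = 1 := by linear_combination hs3 - s * hs2
  rw [hs1, one_smul] at e1
  rw [hs1, inv_one, one_smul] at e2
  exact ⟨e1, e2⟩

theorem eq_emap_of_comm (h2 : (2 : F) ≠ 0) {u c p : Fv} (hf : Fr u c p) {b : F} (hb : b ≠ 0) {A : M3}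
    (hA : OrthUnip A) (hc : A * emap u c b = emap u c b * A) : ∃ s, A = emap u c s := by
  obtain ⟨hA1, N, hN⟩ := hA
  refine hf.eq_emap h2 hA1 hN ?_
  have hcomm : A * (emap u c b - 1) = (emap u c b - 1) * A := by rw [mul_sub, sub_mul, hc, mul_one, one_mul]
  have e := hf.emap_sq b (A *ᵥ p)
  rw [mulVec_mulVec _ (emap u c b - 1) A, ← hcomm, ← mulVec_mulVec, mulVec_mulVec _ (emap u c b - 1) A, ← hcomm,
    ← mulVec_mulVec, hf.emap_sq, hf.up, mulVec_smul] at e
  set l := u ⬝ᵥ A *ᵥ p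
  have hl : A *ᵥ u = l • u := smul_right_injective Fv (pow_ne_zero 2 hb) (by
    simpa [smul_smul] using e)
  have hpow : ∀ m : ℕ, (A - 1) ^ m *ᵥ u = (l - 1) ^ m • u := fun m => by
    induction m with
    | zero => simp
    | succ m ih =>
      rw [pow_succ', ← mulVec_mulVec, ih, mulVec_smul, sub_mulVec, one_mulVec, hl, pow_succ]
      module
  have h0 := hpow N
  rw [hN, zero_mulVec, eq_comm, smul_eq_zero] at h0
  rw [hl, sub_eq_zero.1 (pow_eq_zero_iff'.1 (h0.resolve_right hf.ne)).1, one_smul]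

variable {M : Subgroup (GL (Fin 3 × Fin 3) F)} (D : Data M)
include D

theorem Data.unip_emap {u c p : Fv} (hf : Fr u c p) (b : F) : OrthUnip (emap u c b) := by
  refine ⟨by rw [emap_transpose, hf.emap_mul D.two, neg_add_cancel, emap_zero], ?_⟩
  refine ⟨3, Matrix.ext_of_mulVec_single fun i => ?_⟩
  rw [pow_succ', pow_two, zero_mulVec, ← mulVec_mulVec, ← mulVec_mulVec, hf.emap_sq, sub_mulVec, one_mulVec,
    emap_mulVec]
  simp [hf.uu, hf.uc]

/-- the elements of order the characteristic in the stabiliser -/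
theorem Data.exists_unip {x : G9} (hx : x ∈ M) (hxk : x ∈ Kr) (p : ℕ) [Fact p.Prime] [CharP F p]
    (hxp : x ^ p = 1) : ∃ a b, x = kr a b ∧ OrthUnip (Units.val a) ∧ OrthUnip (Units.val b) := by
  obtain ⟨a, b, rfl⟩ := exists_kr hxk
  rw [kr_pow, ← kr_one] at hxp
  obtain ⟨s, hs, ha, hb⟩ := kr_eq_kr hxp
  rw [Units.val_pow_eq_pow_val, Units.val_one] at ha hb
  obtain ⟨r, hr⟩ := (PerfectRing.bijective_frobenius (R := F) (p := p)).2 s
  change r ^ p = s at hr
  have hr0 : r ≠ 0 := fun h0 => hs (by rw [← hr, h0, zero_pow (Fact.out : p.Prime).ne_zero])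
  let a' : GL (Fin 3) F := ⟨r⁻¹ • Units.val a, r • Units.val a⁻¹,
    by rw [smul_mul_assoc, mul_smul_comm, smul_smul, inv_mul_cancel₀ hr0, one_smul, Units.mul_inv],
    by rw [smul_mul_assoc, mul_smul_comm, smul_smul, mul_inv_cancel₀ hr0, one_smul, Units.inv_mul]⟩
  let b' : GL (Fin 3) F := ⟨r • Units.val b, r⁻¹ • Units.val b⁻¹,
    by rw [smul_mul_assoc, mul_smul_comm, smul_smul, mul_inv_cancel₀ hr0, one_smul, Units.mul_inv],
    by rw [smul_mul_assoc, mul_smul_comm, smul_smul, inv_mul_cancel₀ hr0, one_smul, Units.inv_mul]⟩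
  have hkr : kr a b = kr a' b' := gl_ext9 fun u w => by
    rw [kr_pure, kr_pure]
    show _ = pure ((r⁻¹ • Units.val a) *ᵥ u) ((r • Units.val b) *ᵥ w)
    rw [smul_mulVec, smul_mulVec, pure_smul_left, pure_smul_right, smul_smul, inv_mul_cancel₀ hr0, one_smul]
  haveI : CharP M3 p := charP_of_injective_algebraMap (algebraMap F M3).injective p
  have h1 : (Units.val a') ^ p = 1 := by
    show (r⁻¹ • Units.val a) ^ p = 1
    rw [smul_pow, ha, smul_smul, inv_pow, hr, inv_mul_cancel₀ hs, one_smul]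
  have h1' : (Units.val b') ^ p = 1 := by
    show (r • Units.val b) ^ p = 1
    rw [smul_pow, hb, smul_smul, hr, mul_inv_cancel₀ hs, one_smul]
  obtain ⟨μ, hμ, hA, hB⟩ := exists_simil D.two (a := a') (b := b') fun z => by rw [← hkr]; exact D.iso hx z
  have hp : ∀ m : ℕ, ((Units.val a') ^ m)ᵀ * (Units.val a') ^ m = μ ^ m • 1 := fun m => by
    induction m with
    | zero => simp
    | succ m ih =>
      rw [pow_succ, transpose_mul, mul_assoc, ← mul_assoc _ ((Units.val a') ^ m), ih, smul_mul_assoc, one_mul,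
        mul_smul_comm, hA, smul_smul, pow_succ]
  have hμ1 : μ = 1 := by
    have := congrFun (congrFun (hp p) 0) 0
    rw [h1] at this
    refine frobenius_inj F p ?_
    simpa [frobenius_def] using this.symm
  rw [hμ1, one_smul] at hA
  rw [hμ1, inv_one, one_smul] at hB
  refine ⟨a', b', hkr, ⟨hA, p, ?_⟩, ⟨hB, p, ?_⟩⟩
  · rw [sub_pow_char_of_commute (p := p) (Commute.one_right _), h1, one_pow, sub_self]
  · rw [sub_pow_char_of_commute (p := p) (Commute.one_right _), h1', one_pow, sub_self]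

/-- conjugate elements of the first slot -/
theorem Data.rel_left {g : G9} (hg : g ∈ M) {u c p u' c' p' : Fv} (hf : Fr u c p) (hf' : Fr u' c' p') {b b' : F}
    (hb : b' ≠ 0) {a a' : GL (Fin 3) F} (ha : Units.val a = emap u c b) (ha' : Units.val a' = emap u' c' b')
    (h : g * kr a' (1 : GL (Fin 3) F) = kr a (1 : GL (Fin 3) F) * g) : g ∈ Kr := by
  refine D.slot_left hg hf'.ne hf'.uu hf.ne hf.uu fun w => ?_
  obtain ⟨q, hq⟩ := left_sq hf ha ((Units.val g) *ᵥ ((b' ^ 2)⁻¹ • pure p' w))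
  refine ⟨q, ?_⟩
  rw [← hq, sq2_rel h, ← pure_smul_left, left_sq_pure hf' ha', dotProduct_smul, hf'.up, smul_eq_mul, mul_one,
    mul_inv_cancel₀ (pow_ne_zero 2 hb), one_smul]

/-- an element of the second slot conjugate to one of the first -/
theorem Data.rel_cross {g : G9} (hg : g ∈ M) {u c p u' c' p' : Fv} (hf : Fr u c p) (hf' : Fr u' c' p') {b b' : F}
    (hb : b' ≠ 0) {a a' : GL (Fin 3) F} (ha : Units.val a = emap u c b) (ha' : Units.val a' = emap u' c' b')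
    (h : g * kr (1 : GL (Fin 3) F) a' = kr a (1 : GL (Fin 3) F) * g) : g ∈ (Wr : Subgroup G9) := by
  refine D.slot_cross hg hf'.ne hf'.uu hf.ne hf.uu fun v => ?_
  obtain ⟨q, hq⟩ := left_sq hf ha ((Units.val g) *ᵥ ((b' ^ 2)⁻¹ • pure v p'))
  refine ⟨q, ?_⟩
  rw [← hq, sq2_rel h, ← pure_smul_right, right_sq_pure hf' ha', dotProduct_smul, hf'.up, smul_eq_mul, mul_one,
    mul_inv_cancel₀ (pow_ne_zero 2 hb), one_smul]

omit D in
theorem sq_mem_kron {g : G9} (h : g ∈ (Wr : Subgroup G9)) : g * g ∈ Kr := by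
  rcases h with h | h
  · exact mul_mem h h
  · have := mul_mem h (sw_kron h)
    simpa [mul_assoc, sw_mul_self, ← mul_assoc sw sw] using this

omit D in
theorem exists_coeffs (h2 : (2 : F) ≠ 0) (u c w d : Fv) (X Y : Vv) (z : F → F → G9)
    (hz : ∀ s t v v', (Units.val (z s t)) *ᵥ pure v v' = pure (emap u c s *ᵥ v) (emap w d t *ᵥ v')) :
    ∃ C : Fin 3 → Fin 3 → F, ∀ s t, X ⬝ᵥ (Units.val (z s t)) *ᵥ Y = ∑ i, ∑ j, C i j * s ^ (i : ℕ) * t ^ (j : ℕ) := by
  let T : (Fin 3 → F) → (Fin 3 → F) → Fin 3 → (Fin 3 → F) → Fin 3 → F :=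
    fun u c i v => ![v, (u ⬝ᵥ v) • c - (c ⬝ᵥ v) • u, ((2 : F)⁻¹ * (u ⬝ᵥ v)) • u] i
  have hT : ∀ (u c : Fv) (b : F) v, emap u c b *ᵥ v = ∑ i : Fin 3, b ^ (i : ℕ) • T u c i v := fun u c b v => by
    rw [emap_mulVec, Fin.sum_univ_three]
    simp only [T, Matrix.cons_val_zero, Matrix.cons_val_one, Matrix.cons_val_two, Matrix.head_cons, Matrix.tail_cons,
      Fin.val_zero, Fin.val_one, Fin.val_two]
    module
  refine ⟨fun i j => ∑ k, X ⬝ᵥ pure (T u c i (Pi.single k 1)) (T w d j (row Y k)), fun s t => ?_⟩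
  have e : ∀ k, (Units.val (z s t)) *ᵥ pure (Pi.single k 1) (row Y k) =
      ∑ i : Fin 3, ∑ j : Fin 3, (s ^ (i : ℕ) * t ^ (j : ℕ)) • pure (T u c i (Pi.single k 1)) (T w d j (row Y k)) := by
    intro k
    rw [hz, hT, hT]
    simp only [Fin.sum_univ_three, pure_add_left, pure_add_right, pure_smul_left, pure_smul_right, smul_smul]
    module
  conv_lhs => rw [TensorMax.sum_rows Y, mulVec_sum, dotProduct_sum, Finset.sum_congr rfl fun k _ => congrArg (X ⬝ᵥ ·) (e k)]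
  simp only [dotProduct_sum, dotProduct_smul, smul_eq_mul, Finset.sum_mul]
  rw [Finset.sum_comm]
  refine Finset.sum_congr rfl fun i _ => ?_
  rw [Finset.sum_comm]
  exact Finset.sum_congr rfl fun j _ => Finset.sum_congr rfl fun k _ => by ring

/-- the stabiliser controls the fusion of the root elements of a factor -/
theorem Data.fusion {g : G9} (hg : g ∈ M) {u c p : Fv} (hf : Fr u c p) {b : F} (hb : b ≠ 0) {a : GL (Fin 3) F}
    (ha : Units.val a = emap u c b) (h : g⁻¹ * kr a (1 : GL (Fin 3) F) * g ∈ (Wr : Subgroup G9)) :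
    g ∈ (Wr : Subgroup G9) := by
  classical
  obtain ⟨ch, hch⟩ := CharP.exists F
  haveI : Fact ch.Prime := ⟨(CharP.char_is_prime_or_zero F ch).resolve_right (CharP.char_ne_zero_of_finite F ch)⟩
  have h2 := D.two
  have hodd : Odd ch := (Fact.out : ch.Prime).odd_of_ne_two fun e => h2 (by subst e; exact CharP.cast_eq_zero F 2)
  have hEM : kr a (1 : GL (Fin 3) F) ∈ M := by
    obtain ⟨a₀, ha₀, hm⟩ := D.left_mem hf b
    rwa [show a = a₀ from Units.ext (ha.trans ha₀.symm)]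
  set x := g⁻¹ * kr a (1 : GL (Fin 3) F) * g with hx
  have hap : a ^ ch = 1 := Units.ext (by
    rw [Units.val_pow_eq_pow_val, ha, hf.emap_pow h2, CharP.cast_eq_zero, zero_mul, emap_zero, Units.val_one])
  have hxp : x ^ ch = 1 := by
    have : x = MulAut.conj g⁻¹ (kr a (1 : GL (Fin 3) F)) := by rw [MulAut.conj_apply, inv_inv]
    rw [this, ← map_pow, kr_pow, hap, one_pow, kr_one, map_one]
  have hxk : x ∈ Kr := by
    obtain ⟨m, hm⟩ := hodd
    have := pow_mem (sq_mem_kron h) (m + 1)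
    rwa [← pow_two, ← pow_mul, show 2 * (m + 1) = ch + 1 by omega, pow_succ, hxp, one_mul] at this
  have hxM : x ∈ M := mul_mem (mul_mem (inv_mem hg) hEM) hg
  have hgx : g * x = kr a (1 : GL (Fin 3) F) * g := by rw [hx, ← mul_assoc, mul_inv_cancel_left]
  obtain ⟨A, B, hAB, hA, hB⟩ := D.exists_unip hxM hxk ch hxp
  rcases exists_emap h2 hA.1 hA.2.choose_spec with hA1 | ⟨u₁, c₁, p₁, hf₁, α₁, hα₁, hAe⟩
  · rcases exists_emap h2 hB.1 hB.2.choose_spec with hB1 | ⟨u₂, c₂, p₂, hf₂, α₂, hα₂, hBe⟩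
    · exfalso
      have hx1 : x = 1 := by rw [hAB, show A = 1 from Units.ext hA1, show B = 1 from Units.ext hB1, kr_one]
      rw [hx1, mul_one, right_eq_mul] at hgx
      rw [← kr_one] at hgx
      obtain ⟨s, -, hs, -⟩ := kr_eq_kr hgx
      rw [ha, Units.val_one] at hs
      obtain ⟨r1, r2, r3, r4, r5, r6, r7, r8, r9⟩ := hf.rel
      have := congrArg (fun A : M3 => c ⬝ᵥ A *ᵥ p) hs
      simp only [(hf.emap_frame b).2.2, smul_mulVec, one_mulVec, dotProduct_add, dotProduct_smul, r6, r8, r9,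
        smul_eq_mul, mul_zero, add_zero, zero_add, mul_neg, mul_one] at this
      exact hb (neg_eq_zero.1 this)
    · refine D.rel_cross hg hf hf₂ hα₂ ha hBe ?_
      rw [show kr (1 : GL (Fin 3) F) B = x by rw [hAB, show A = 1 from Units.ext hA1], hgx]
  rcases exists_emap h2 hB.1 hB.2.choose_spec with hB1 | ⟨u₂, c₂, p₂, hf₂, α₂, hα₂, hBe⟩
  · exact Or.inl (D.rel_left hg hf hf₁ hα₁ ha hAe (by rw [show kr A (1 : GL (Fin 3) F) = x by rw [hAB, show B = 1 from Units.ext hB1], hgx]))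
  -- both parts are non-trivial
  choose P hP hPM using D.left_mem hf₁
  choose R hR hRM using D.right_mem hf₂
  let z : F → F → G9 := fun s t => kr (P s) (R t)
  have hzM : ∀ s t, z s t ∈ M := fun s t => by
    have := mul_mem (hPM s) (hRM t)
    rwa [kr_mul, mul_one, one_mul] at this
  have hzadd : ∀ s t s' t', z s t * z s' t' = z (s + s') (t + t') := fun s t s' t' => by
    simp only [z, kr_mul]
    rw [show P s * P s' = P (s + s') from Units.ext (by rw [Units.val_mul, hP, hP, hP, hf₁.emap_mul h2]),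
      show R t * R t' = R (t + t') from Units.ext (by rw [Units.val_mul, hR, hR, hR, hf₂.emap_mul h2])]
  have hxz : x = z α₁ α₂ := by
    rw [hAB, show A = P α₁ from Units.ext (hAe.trans (hP _).symm), show B = R α₂ from Units.ext (hBe.trans (hR _).symm)]
  set y : F → F → G9 := fun s t => g * z s t * g⁻¹ with hy
  have hyM : ∀ s t, y s t ∈ M := fun s t => mul_mem (mul_mem hg (hzM s t)) (inv_mem hg)
  have hyadd : ∀ s t s' t', y s t * y s' t' = y (s + s') (t + t') := fun s t s' t' => by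
    simp only [hy]
    rw [mul_assoc _ g⁻¹, ← mul_assoc g⁻¹, ← mul_assoc g⁻¹, inv_mul_cancel, one_mul, ← mul_assoc, mul_assoc g,
      hzadd]
  have hEy : kr a (1 : GL (Fin 3) F) = y α₁ α₂ := by
    simp only [hy, ← hxz, hgx, mul_inv_cancel_right]
  have hycomm : ∀ s t s' t', y s t * y s' t' = y s' t' * y s t := fun s t s' t' => by
    rw [hyadd, hyadd, add_comm s, add_comm t]
  have hy00 : y 0 0 = 1 := by
    have := hyadd 0 0 0 0
    rwa [add_zero, mul_eq_left] at this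
  have hypow : ∀ s t (m : ℕ), y s t ^ m = y (m * s) (m * t) := fun s t m => by
    induction m with
    | zero => rw [pow_zero, Nat.cast_zero, zero_mul, zero_mul, hy00]
    | succ m ih => rw [pow_succ, ih, hyadd, Nat.cast_succ, add_mul, add_mul, one_mul, one_mul]
  have hyk : ∀ s t, y s t ∈ Kr := fun s t => by
    exact D.rel_left (hyM s t) hf hf hb ha ha (by rw [hEy, hycomm])
  have hyp : ∀ s t, y s t ^ ch = 1 := fun s t => by rw [hypow, CharP.cast_eq_zero, zero_mul, zero_mul, hy00]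
  choose Y₁ Y₂ hY hY1 hY2 using fun s t => D.exists_unip (hyM s t) (hyk s t) ch (hyp s t)
  have hone : OrthUnip (Units.val (1 : GL (Fin 3) F)) := ⟨by simp, 1, by simp⟩
  have haU : OrthUnip (Units.val a) := ha ▸ D.unip_emap hf b
  have hφ₁ : ∀ s t, ∃ φ, Units.val (Y₁ s t) = emap u c φ := fun s t => by
    refine eq_emap_of_comm h2 hf hb (hY1 s t) ?_
    have := (comm_of_kr (hY1 s t) haU (b := Y₂ s t) (b' := 1) (by
      rw [← hY, hEy]; exact hycomm _ _ _ _)).1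
    rwa [ha] at this
  have hY2c : ∀ s t s' t', Units.val (Y₂ s t) * Units.val (Y₂ s' t') = Units.val (Y₂ s' t') * Units.val (Y₂ s t) :=
    fun s t s' t' => (comm_of_kr (hY1 s t) (hY1 s' t') (by rw [← hY, ← hY]; exact hycomm _ _ _ _)).2
  obtain ⟨w, d, e, hfw, hφ₂⟩ : ∃ w d e, Fr w d e ∧ ∀ s t, ∃ φ, Units.val (Y₂ s t) = emap w d φ := by
    by_cases hall : ∀ s t, Units.val (Y₂ s t) = 1
    · exact ⟨u, c, p, hf, fun s t => ⟨0, by rw [hall, emap_zero]⟩⟩
    push Not at hall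
    obtain ⟨s₀, t₀, hne⟩ := hall
    obtain ⟨w, d, e, hfw, β, hβ, hB0⟩ := (exists_emap h2 (hY2 s₀ t₀).1 (hY2 s₀ t₀).2.choose_spec).resolve_left hne
    exact ⟨w, d, e, hfw, fun s t => eq_emap_of_comm h2 hfw hβ (hY2 s t) (by rw [← hB0]; exact hY2c _ _ _ _)⟩
  choose φ₁ hφ₁ using hφ₁
  choose φ₂ hφ₂ using hφ₂
  have hact : ∀ s t v v', (Units.val (y s t)) *ᵥ pure v v' =
      pure (emap u c (φ₁ s t) *ᵥ v) (emap w d (φ₂ s t) *ᵥ v') := fun s t v v' => by
    rw [hY, kr_pure, hφ₁, hφ₂]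
  obtain ⟨e1, e2, e3⟩ := hf.emap_frame (0 : F)
  have hcu : ∀ {u c p : Fv}, Fr u c p → ∀ φ : F, u ⬝ᵥ emap u c φ *ᵥ p = 1 ∧ c ⬝ᵥ emap u c φ *ᵥ p = -φ ∧
      p ⬝ᵥ emap u c φ *ᵥ p = φ ^ 2 / 2 := fun {u c p} hf φ => by
    obtain ⟨r1, r2, r3, r4, r5, r6, r7, r8, r9⟩ := hf.rel
    rw [(hf.emap_frame φ).2.2]
    simp [r1, r2, r3, r4, r5, r6, r7, r8, r9]
  set Y₀ : Vv := pure p e
  have hc1 : ∀ s t, pure c w ⬝ᵥ (Units.val (y s t)) *ᵥ Y₀ = -φ₁ s t := fun s t => by
    rw [hact, dot_pure, (hcu hf _).2.1, (hcu hfw _).1, mul_one]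
  have hc2 : ∀ s t, pure u d ⬝ᵥ (Units.val (y s t)) *ᵥ Y₀ = -φ₂ s t := fun s t => by
    rw [hact, dot_pure, (hcu hf _).1, (hcu hfw _).2.1, one_mul]
  have hc3 : ∀ s t, Y₀ ⬝ᵥ (Units.val (y s t)) *ᵥ Y₀ = φ₁ s t ^ 2 / 2 * (φ₂ s t ^ 2 / 2) := fun s t => by
    rw [hact, dot_pure, (hcu hf _).2.2, (hcu hfw _).2.2]
  have hpoly : ∀ X : Vv, ∃ C : Fin 3 → F, ∀ s, X ⬝ᵥ (Units.val (y s 0)) *ᵥ Y₀ = ∑ i, C i * s ^ (i : ℕ) := by
    intro X
    obtain ⟨C, hC⟩ := exists_coeffs h2 u₁ c₁ u₂ c₂ ((Units.val g⁻¹) *ᵥ X) ((Units.val g⁻¹) *ᵥ Y₀) z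
      fun s t v v' => by rw [kr_pure, hP, hR]
    refine ⟨fun i => C i 0, fun s => ?_⟩
    conv_lhs => rw [← mulVec_inv_cancel g X, hy, mulVec_mul_GL, mulVec_mul_GL, D.dot hg, hC]
    simp [Fin.sum_univ_three]
  have hadd : ∀ s s', φ₁ (s + s') 0 = φ₁ s 0 + φ₁ s' 0 ∧ φ₂ (s + s') 0 = φ₂ s 0 + φ₂ s' 0 := fun s s' => by
    have h0 := congrArg (fun g : G9 => (Units.val g) *ᵥ Y₀) (hyadd s 0 s' 0)
    rw [add_zero] at h0
    simp only [mulVec_mul_GL, hact, Y₀] at h0
    rw [mulVec_mulVec, mulVec_mulVec, hf.emap_mul h2, hfw.emap_mul h2, ← hact] at h0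
    have k1 := congrArg (pure c w ⬝ᵥ ·) h0
    have k2 := congrArg (pure u d ⬝ᵥ ·) h0
    simp only [hc1, hc2, dot_pure, (hcu hf _).1, (hcu hf _).2.1, (hcu hfw _).1, (hcu hfw _).2.1] at k1 k2
    have j1 : pure c w ⬝ᵥ (Units.val (y (s + s') 0)) *ᵥ pure p e = -φ₁ (s + s') 0 := hc1 _ _
    have j2 : pure u d ⬝ᵥ (Units.val (y (s + s') 0)) *ᵥ pure p e = -φ₂ (s + s') 0 := hc2 _ _
    exact ⟨by linear_combination k1 + j1, by linear_combination k2 + j2⟩
  have hlin : ∀ (φ : F → F) (C : Fin 3 → F), (∀ s, -φ s = ∑ i, C i * s ^ (i : ℕ)) →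
      (∀ s s', φ (s + s') = φ s + φ s') → ∀ s, φ s = φ 1 * s := by
    intro φ C hC had s
    have hv : ∀ s, -φ s = C 0 + C 1 * s + C 2 * s ^ 2 := fun s => by rw [hC, Fin.sum_univ_three]; simp
    have h0 : φ 0 = 0 := by simpa using had 0 0
    have hC0 : C 0 = 0 := by have := hv 0; rw [h0] at this; simpa using this.symm
    have hC2 : (2 : F) * C 2 = 0 := by
      linear_combination (-1 : F) * hv (1 + 1) + 2 * hv 1 - had 1 1 + hC0
    have hC2' : C 2 = 0 := (mul_eq_zero.1 hC2).resolve_left h2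
    linear_combination (-1 : F) * hv s + s * hv 1 + (s - 1) * hC0 + (s - s ^ 2) * hC2'
  obtain ⟨C₁, hC₁⟩ := hpoly (pure c w)
  obtain ⟨C₂, hC₂⟩ := hpoly (pure u d)
  obtain ⟨C₃, hC₃⟩ := hpoly Y₀
  have hl1 := hlin (fun s => φ₁ s 0) C₁ (fun s => by rw [← hc1, hC₁]) fun s s' => (hadd s s').1
  have hl2 := hlin (fun s => φ₂ s 0) C₂ (fun s => by rw [← hc2, hC₂]) fun s s' => (hadd s s').2
  obtain ⟨-, -, -, -, h4⟩ := quartic_zero D.five (a₀ := -C₃ 0) (a₁ := -C₃ 1) (a₂ := -C₃ 2) (a₃ := 0)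
    (a₄ := φ₁ 1 0 ^ 2 / 2 * (φ₂ 1 0 ^ 2 / 2)) fun s => by
      have := hC₃ s
      rw [hc3, hl1 s, hl2 s, Fin.sum_univ_three] at this
      simp at this
      linear_combination this
  have hgz : g * kr (P 1) (1 : GL (Fin 3) F) = y 1 0 * g := by
    rw [hy, show kr (P 1) (1 : GL (Fin 3) F) = z 1 0 by
      simp only [z]; rw [show R 0 = 1 from Units.ext (by rw [hR, emap_zero, Units.val_one])]]
    rw [inv_mul_cancel_right]
  by_cases hz1 : φ₁ 1 0 = 0
  · have hY10 : Y₁ 1 0 = 1 := Units.ext (by rw [hφ₁, hz1, emap_zero, Units.val_one])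
    by_cases hz2 : φ₂ 1 0 = 0
    · exfalso
      have hY20 : Y₂ 1 0 = 1 := Units.ext (by rw [hφ₂, hz2, emap_zero, Units.val_one])
      rw [hY, hY10, hY20, kr_one, one_mul, mul_eq_left] at hgz
      rw [← kr_one] at hgz
      obtain ⟨s, -, hs, -⟩ := kr_eq_kr hgz
      rw [hP, Units.val_one] at hs
      have := congrArg (fun A : M3 => u₁ ⬝ᵥ A *ᵥ p₁) hs
      have h' := congrArg (fun A : M3 => c₁ ⬝ᵥ A *ᵥ p₁) hs
      simp only [(hcu hf₁ _).1, (hcu hf₁ _).2.1, smul_mulVec, one_mulVec, dotProduct_smul, hf₁.up,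
        hf₁.rel.2.2.2.2.2.2.2.1, smul_eq_mul, mul_zero, mul_one] at this h'
      exact one_ne_zero (neg_eq_zero.1 h')
    · refine (Wr : Subgroup G9).inv_mem_iff.1 (D.rel_cross (inv_mem hg) hf₁ hfw hz2 (hP 1) (hφ₂ 1 0) ?_)
      rw [show kr (1 : GL (Fin 3) F) (Y₂ 1 0) = y 1 0 by rw [hY, hY10], inv_mul_eq_iff_eq_mul, ← mul_assoc, hgz, mul_inv_cancel_right]
  · have hz2 : φ₂ 1 0 = 0 := by
      by_contra hne
      exact mul_ne_zero (div_ne_zero (pow_ne_zero 2 hz1) h2) (div_ne_zero (pow_ne_zero 2 hne) h2) h4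
    refine Or.inl (D.rel_left hg hf hf₁ one_ne_zero (hφ₁ 1 0) (hP 1) ?_)
    rw [hgz, hY, show Y₂ 1 0 = 1 from Units.ext (by rw [hφ₂, hz2, emap_zero, Units.val_one])]

/-- fusion of the root elements of the second factor -/
theorem Data.fusion' {g : G9} (hg : g ∈ M) {u c p : Fv} (hf : Fr u c p) {b : F} (hb : b ≠ 0) {a : GL (Fin 3) F}
    (ha : Units.val a = emap u c b) (h : g⁻¹ * kr (1 : GL (Fin 3) F) a * g ∈ (Wr : Subgroup G9)) :
    g ∈ (Wr : Subgroup G9) := by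
  have h' := D.symm.fusion (g := sw * g * sw) (mem_swp.2 (by rwa [sw_sw])) hf hb ha (by
    have e : (sw * g * sw)⁻¹ * kr a (1 : GL (Fin 3) F) * (sw * g * sw) =
        sw * (g⁻¹ * (sw * kr a (1 : GL (Fin 3) F) * sw) * g) * sw := by
      simp only [_root_.mul_inv_rev, sw_inv, mul_assoc]
    rw [e, sw_kr]
    exact sw_Wr h)
  simpa [sw_sw] using sw_Wr h'

end Cfsg.Agent.Forms.Max.NineTensor
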