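import Cfsg.Agent.Lib.Forms.Max.NineTensor.Preserver
import Cfsg.Agent.Lib.Forms.Max.OrthOrth.Maximal

/-!
# The stabiliser of a tensor square of a three-dimensional space is maximal
-/

set_option autoImplicit false
set_option linter.unusedSectionVars false

namespace Cfsg.Agent.Forms.Max.NineTensor

open Matrix Cfsg.Agent.Aschbacher Cfsg.Agent.Forms.QuadStd Cfsg.Agent.Forms.Reflections
  Cfsg.Agent.Classical.Orth Cfsg.Agent.Forms.Max.TensorMax Cfsg.Agent.Forms.Max.OrthOrth
open Cfsg.Agent.Forms.Max.TensorRes (kr_mem_kron exists_kr)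
open Cfsg.Agent.Forms.Max.TensorRes.Unitary (pure_add_left pure_smul_left pure_add_right pure_smul_right
  pure_zero_left pure_zero_right pure_ne_zero)

variable {F : Type*} [Field F] [Fintype F]

local notation "Fv" => (Fin 3 → F)
local notation "Vv" => (Fin 3 × Fin 3 → F)
local notation "G9" => GL (Fin 3 × Fin 3) F
local notation "Kr" => Cfsg.Geo.kroneckerSubgroup 3 3 F
local notation "Q₃" => (qd : QuadraticForm F (Fin 3 → F))
local notation "Q₉" => (qd : QuadraticForm F (Fin 3 × Fin 3 → F))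

variable (h2 : (2 : F) ≠ 0) (h5 : 5 ≤ Fintype.card F)
include h2 h5

/-- `Ω` contains an element exchanging the factors -/
theorem exists_swap : ∃ a b : GL (Fin 3) F, kr a b * sw ∈ (Cfsg.Geo.omegaGL ⇑Q₉) := by
  classical
  have hQ := qd_nondeg (F := F) (ι := Fin 3 × Fin 3) h2
  let I := Cfsg.isometryGroup F ⇑Q₉
  have hkr : ∀ v : Fv, Q₃ v ≠ 0 → ∃ x : I, (x : G9) ∈ Kr ∧
      Spinor.pairHom hQ h2 x = (-1, if IsSquare (Q₃ v) then -1 else 1) := by
    intro v hv
    have hq : ∀ j : Fin 3, Q₉ (pure v (Pi.single j 1)) = Q₃ v := fun j => by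
      rw [qd_apply, qd_apply, dot_pure, single_dotProduct, Pi.single_eq_same, mul_one, mul_one]
    set x := reflect Q₉ (pure v (Pi.single 0 1)) * reflect Q₉ (pure v (Pi.single 1 1)) *
      reflect Q₉ (pure v (Pi.single 2 1)) with hx
    refine ⟨x, ?_, ?_⟩
    · have e : (x : G9) = kr ((reflect Q₃ v : Cfsg.isometryGroup F ⇑Q₃) : GL (Fin 3) F) 1 := gl_ext9 fun u w => by
        rw [kr_pure, Units.val_one, one_mulVec, ← act_apply, ← act_apply, hx, act_mul, act_mul, act_reflect,
          act_reflect, act_reflect, act_reflect]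
        simp only [hq, polar_qd h2, dotProduct_sub, dotProduct_smul, dot_pure, smul_eq_mul, single_dotProduct,
          one_mul, Pi.single_apply, Fin.reduceEq, if_false, if_true, mul_zero, sub_zero]
        funext ⟨i, j⟩
        fin_cases j <;> simp [TensorMax.pure] <;> ring
      rw [e]
      exact kr_mem_kron _ _
    · have h0 : ∀ j : Fin 3, Spinor.pairHom hQ h2 (reflect Q₉ (pure v (Pi.single j 1))) =
          (-1, if IsSquare (Q₃ v) then -1 else 1) := fun j => by
        rw [Spinor.pairHom_reflect hQ h2 (by rw [hq]; exact hv)]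
        simp only [hq]
      rw [map_mul, map_mul, h0, h0, h0]
      by_cases hs : IsSquare (Q₃ v) <;> simp [hs]
  obtain ⟨a, b, ha, hb, hbs⟩ := Spinor.exists_two_classes (qd_nondeg (F := F) (ι := Fin 3) h2) h2 (by simp)
  obtain ⟨xa, hxa, ha'⟩ := hkr a (by rw [ha]; exact one_ne_zero)
  obtain ⟨xb, hxb, hb'⟩ := hkr b hb
  rw [if_pos (by rw [ha]; exact IsSquare.one)] at ha'
  rw [if_neg hbs] at hb'
  obtain ⟨k, hk, hkv⟩ : ∃ k : I, (k : G9) ∈ Kr ∧
      Spinor.pairHom hQ h2 k = (Spinor.pairHom hQ h2 ⟨sw, sw_iso h2⟩)⁻¹ := by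
    generalize (Spinor.pairHom hQ h2 ⟨sw, sw_iso h2⟩)⁻¹ = v
    obtain ⟨x, y⟩ := v
    rcases Int.units_eq_one_or x with rfl | rfl <;> rcases Int.units_eq_one_or y with rfl | rfl
    exacts [⟨1, one_mem Kr, map_one _⟩, ⟨xa * xb, mul_mem hxa hxb, by rw [map_mul, ha', hb']; rfl⟩,
      ⟨xb, hxb, hb'⟩, ⟨xa, hxa, ha'⟩]
  have hmem : k * ⟨sw, sw_iso h2⟩ ∈ Cfsg.Omega F ⇑Q₉ := by
    rw [← Spinor.ker_pairHom hQ h2 (by simp), MonoidHom.mem_ker, map_mul, hkv, inv_mul_cancel]
  obtain ⟨a', b', hab⟩ := exists_kr hk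
  exact ⟨a', b', k * ⟨sw, sw_iso h2⟩, hmem, by rw [Subgroup.coe_subtype, Subgroup.coe_mul, hab]⟩

/-- `Ω` does not keep the decomposition -/
theorem not_le_wr : ¬ (Cfsg.Geo.omegaGL ⇑Q₉) ≤ (Wr : Subgroup G9) := fun hle => by
  classical
  obtain ⟨p, hp⟩ := CharP.exists F
  haveI : Fact p.Prime := ⟨(CharP.char_is_prime_or_zero F p).resolve_right (CharP.char_ne_zero_of_finite F p)⟩
  have hpodd : Odd p := (Fact.out : p.Prime).odd_of_ne_two fun e => h2 (by subst e; exact CharP.cast_eq_zero F 2)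
  have hQ := qd_nondeg (F := F) (ι := Fin 3 × Fin 3) h2
  refine not_le_kron (setup h2 h5) (Subgroup.map_le_iff_le_comap.2 ?_)
  refine Orth.omega_le_of_centres hQ (by simp) fun u _ hu => ⟨hu, fun w hu' huw => ?_⟩
  rw [Subgroup.mem_comap]
  set x : Cfsg.isometryGroup F ⇑Q₉ := eich u w hu' huw
  have hxW : (x : G9) ∈ (Wr : Subgroup G9) := hle ⟨x, Orth.eich_omega hQ (by simp) hu' huw, rfl⟩
  have hxp : x ^ p = 1 := by
    have : ∀ m : ℕ, x ^ m = eich u ((m : F) • w) hu' (by rw [QuadraticMap.polar_smul_right, huw, smul_zero]) := fun m => by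
      induction m with
      | zero =>
        rw [pow_zero]
        simp only [Nat.cast_zero, zero_smul]
        exact (eich_zero_right hu' _).symm
      | succ m ih =>
        rw [pow_succ, ih]
        refine iso_ext fun z => ?_
        rw [← act_apply, ← act_apply, act_mul, act_eich, act_eich, act_eich]
        simp only [QuadraticMap.polar_add_left, QuadraticMap.polar_sub_left, QuadraticMap.polar_smul_left,
          QuadraticMap.polar_smul_right, QuadraticMap.map_smul, QuadraticMap.polar_comm _ w u, huw,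
          Orth.polar_of_sing (S := Submodule.span F {u}) (fun y hy => by
            obtain ⟨c, rfl⟩ := Submodule.mem_span_singleton.1 hy
            rw [QuadraticMap.map_smul, hu', smul_zero]) (Submodule.mem_span_singleton_self u) (Submodule.mem_span_singleton_self u),
          QuadraticMap.polar_self, smul_eq_mul, Nat.cast_succ]
        module
    rw [this p]
    simp only [CharP.cast_eq_zero, zero_smul]
    exact eich_zero_right hu' _
  show (x : G9) ∈ Kr
  obtain ⟨m, hm⟩ := hpodd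
  have := pow_mem (sq_mem_kron hxW) (m + 1)
  rwa [← pow_two, ← pow_mul, show 2 * (m + 1) = p + 1 by omega, pow_succ, ← Subgroup.coe_pow, hxp, Subgroup.coe_one,
    one_mul] at this

/-- the model -/
theorem model_maximal : Cfsg.Geo.IsMaximalIn (Cfsg.Geo.omegaGL ⇑Q₉) ((Wr : Subgroup G9) ⊓ (Cfsg.Geo.omegaGL ⇑Q₉)) := by
  refine isMaximalIn_of inf_le_right (fun h => not_le_wr h2 h5 fun g hg => (h hg).1) fun M hM hMK g hgM hg => ?_
  obtain ⟨a, b, hab⟩ := exists_swap h2 h5
  have hswap : kr a b * sw ∈ M := hM ⟨Or.inr (by rw [mul_assoc, sw_mul_self, mul_one]; exact kr_mem_kron a b), hab⟩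
  have S := setup h2 h5
  have hO : Over Q₃ Q₃ Q₉ M := ⟨S, hMK, fun x hx => hM ⟨Or.inl hx.1, hx.2⟩⟩
  have hO' : Over Q₃ Q₃ Q₉ (swp M) := ⟨S, fun x hx => by
      rw [← swp_omega h2, mem_swp]; exact hMK (mem_swp.1 hx),
    fun x hx => mem_swp.2 (hM ⟨Or.inl (sw_kron hx.1), mem_swp.1 (by rw [swp_omega h2]; exact hx.2)⟩)⟩
  by_cases hN : NoCentral Q₃ M
  swap
  · exact omega_le hO hN
  by_cases hN' : NoCentral Q₃ (swp M)
  swap
  · intro x hx
    have := omega_le hO' hN' (show sw * x * sw ∈ (Cfsg.Geo.omegaGL ⇑Q₉) from mem_swp.1 (by rw [swp_omega h2]; exact hx))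
    rwa [mem_swp, sw_sw] at this
  exact absurd ⟨Data.le_wr ⟨hO, hN, hO', hN', a, b, hswap⟩ hgM, hMK hgM⟩ hg

omit h5 in
/-- a symmetric form in dimension three is similar to the dot product -/
theorem exists_similar {f : Fv → Fv → F} (hf : Cfsg.Geo.IsSymmetricForm f) :
    ∃ (C : GL (Fin 3) F) (d : F), d ≠ 0 ∧ ∀ u v, f ((Units.val C) *ᵥ u) ((Units.val C) *ᵥ v) = d * (u ⬝ᵥ v) := by
  have har := hf.bilinear.add_right
  have hsr := hf.bilinear.smul_right
  let B : LinearMap.BilinForm F Fv := LinearMap.mk₂ F f hf.bilinear.add_left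
    (fun c x y => by rw [hf.bilinear.smul_left, smul_eq_mul]) har (fun c v x => by rw [hsr, smul_eq_mul])
  have hBs : B.IsSymm := ⟨fun x y => hf.symm x y⟩
  have hrefl : ∀ u v, B u v = 0 → B v u = 0 := fun u v h => by rw [hBs.eq, h]
  have hnd : Bases.NondegOn B ⊤ := fun u _ h => by
    by_contra h0
    obtain ⟨v, hv⟩ := (hf.nondegenerate u h0).2
    exact hv (h v Submodule.mem_top)
  have h3 : Module.finrank F (⊤ : Submodule F Fv) = 3 := by simp
  set Gm : Matrix (Fin 3) (Fin 3) F := Cfsg.Geo.gramMatrix f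
  have hG : ∀ x y, f x y = x ⬝ᵥ Gm *ᵥ y := fun x y => by
    rw [← Factor.formOfGram_gram (RingHom.id F) hf.bilinear.add_left hf.bilinear.smul_left har hsr]
    simp [Cfsg.Geo.formOfGram, dotProduct, Matrix.mulVec, Finset.mul_sum, mul_assoc, Gm]
  have hd0 : Gm.det ≠ 0 := fun h0 => by
    obtain ⟨v, hv, hGv⟩ := Matrix.exists_mulVec_eq_zero_iff.2 h0
    exact hv (hnd v Submodule.mem_top fun w _ => hrefl w v (by show f w v = 0; rw [hG, hGv, dotProduct_zero]))
  set d := Gm.det
  obtain ⟨u₁, hu₁, hB1, hu₁0⟩ := Bases.exists_symm_unit h2 B hBs ⊤ hnd (by omega) d hd0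
  obtain ⟨hW1, -, hf1⟩ := Bases.split_anisotropic B hrefl hnd hu₁ (by rw [hB1]; exact hd0)
  obtain ⟨u₂, hu₂, hB2, hu₂0⟩ := Bases.exists_symm_unit h2 B hBs _ hW1 (by omega) d hd0
  obtain ⟨hW2, -, hf2⟩ := Bases.split_anisotropic B hrefl hW1 hu₂ (by rw [hB2]; exact hd0)
  set W₂ : Submodule F Fv := ⊤ ⊓ LinearMap.ker (B u₁) ⊓ LinearMap.ker (B u₂) with hW₂
  obtain ⟨u₃, hu₃, hu₃0⟩ := Submodule.exists_mem_ne_zero_of_ne_bot (p := W₂) fun h0 => by
    rw [h0, finrank_bot] at hf2
    omega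
  have h12 : B u₁ u₂ = 0 := (Submodule.mem_inf.1 hu₂).2
  have h23 : B u₂ u₃ = 0 := (Submodule.mem_inf.1 hu₃).2
  have h13 : B u₁ u₃ = 0 := (Submodule.mem_inf.1 (Submodule.mem_inf.1 hu₃).1).2
  have he : B u₃ u₃ ≠ 0 := fun h0 => hu₃0 (hW2 u₃ hu₃ fun v hv => by
    have hfr : Module.finrank F W₂ ≤ 1 := by omega
    obtain ⟨c, rfl⟩ : ∃ c : F, c • u₃ = v := by
      obtain ⟨c, hc⟩ := exists_smul_eq_of_finrank_eq_one (le_antisymm hfr (Submodule.one_le_finrank_iff.2
        fun hb => hu₃0 ((Submodule.mem_bot F).1 (hb ▸ hu₃)))) (show (⟨u₃, hu₃⟩ : W₂) ≠ 0 from fun h => hu₃0 (congrArg Subtype.val h)) ⟨v, hv⟩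
      exact ⟨c, congrArg Subtype.val hc⟩
    rw [map_smul, h0, smul_zero])
  set C₀ : Matrix (Fin 3) (Fin 3) F := (Matrix.of ![u₁, u₂, u₃])ᵀ with hC₀
  have hcol : C₀ᵀ * Gm * C₀ = Matrix.diagonal ![d, d, B u₃ u₃] := by
    have : ∀ i j, (C₀ᵀ * Gm * C₀) i j = f (![u₁, u₂, u₃] i) (![u₁, u₂, u₃] j) := fun i j => by
      rw [hG, hC₀, transpose_transpose, mul_assoc, Matrix.mul_apply]
      simp [Matrix.mul_apply, dotProduct, Matrix.mulVec]
    ext i j
    rw [this, Matrix.diagonal_apply]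
    fin_cases i <;> fin_cases j
    exacts [hB1, h12, h13, hrefl _ _ h12, hB2, h23, hrefl _ _ h13, hrefl _ _ h23, rfl]
  have hdet := congrArg Matrix.det hcol
  rw [det_mul, det_mul, det_transpose, det_diagonal, Fin.prod_univ_three] at hdet
  simp at hdet
  have hdC : C₀.det ≠ 0 := fun h0 => by
    rw [h0, mul_zero] at hdet
    exact mul_ne_zero (mul_ne_zero hd0 hd0) he hdet.symm
  set s := d / C₀.det
  have hs : s * s * B u₃ u₃ = d := by
    simp only [s]
    field_simp
    apply mul_left_cancel₀ hd0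
    linear_combination -hdet
  set C₁ : Matrix (Fin 3) (Fin 3) F := C₀ * Matrix.diagonal ![1, 1, s]
  have hC1 : C₁ᵀ * Gm * C₁ = d • 1 := by
    simp only [C₁, transpose_mul, diagonal_transpose]
    rw [show Matrix.diagonal ![1, 1, s] * C₀ᵀ * Gm * (C₀ * Matrix.diagonal ![1, 1, s]) =
      Matrix.diagonal ![1, 1, s] * (C₀ᵀ * Gm * C₀) * Matrix.diagonal ![1, 1, s] by simp only [mul_assoc], hcol,
      diagonal_mul_diagonal, diagonal_mul_diagonal, smul_one_eq_diagonal]
    congr 1
    funext i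
    fin_cases i <;> simp
    linear_combination hs
  have hdet1 : C₁.det ≠ 0 := fun h0 => by
    have := congrArg Matrix.det hC1
    rw [det_mul, det_mul, h0, mul_zero, det_smul, det_one, mul_one] at this
    exact pow_ne_zero _ hd0 this.symm
  refine ⟨Matrix.GeneralLinearGroup.mkOfDetNeZero C₁ hdet1, d, hd0, fun u v => ?_⟩
  show f (C₁ *ᵥ u) (C₁ *ᵥ v) = _
  rw [hG, dotProduct_comm, ← dotProduct_transpose_mulVec, mulVec_mulVec, mulVec_mulVec,
    hC1, smul_mulVec, one_mulVec, dotProduct_smul, smul_eq_mul]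

/-- the stabiliser of a tensor square of a three-dimensional space is maximal -/
theorem tensor_square_maximal {ι : Type} [Fintype ι] [DecidableEq ι] (R : QuadraticForm F (ι → F))
    (e : ι ≃ (Fin 2 → Fin 3)) (P : GL ι F) (f₁ : Fv → Fv → F) (hf₁ : Cfsg.Geo.IsSymmetricForm f₁)
    (hT : Cfsg.Geo.IsTensorPowerFormStructure id (QuadraticMap.polar ⇑R) f₁ e P) :
    Cfsg.Geo.IsMaximalIn (Cfsg.Geo.omegaGL ⇑R) (Cfsg.Geo.tensorWreathSubgroup 3 2 e P ⊓ Cfsg.Geo.omegaGL ⇑R) := by
  classical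
  obtain ⟨C, d, hd, hC⟩ := exists_similar h2 hf₁
  obtain ⟨κ, hκ, hval⟩ := hT
  let τ : (Fin 2 → Fin 3) ≃ Fin 3 × Fin 3 := finTwoArrowEquiv _
  let e' := e.trans τ
  let ψ : G9 ≃* GL ι F := (Cfsg.Geo.glReindex e'.symm).trans (MulAut.conj P)
  have hψ : ∀ (g : G9) x, (Units.val (ψ g)) *ᵥ ((Units.val P) *ᵥ (x ∘ e')) =
      (Units.val P) *ᵥ (((Units.val g) *ᵥ x) ∘ e') := by
    intro g x
    have h1 : glCoord e' P (ψ g) = g := ψ.injective (conj_glReindex_glCoord e' P (ψ g))
    conv_rhs => rw [← h1]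
    exact (glCoord_mulVec e' P (ψ g) x).symm
  have hW : (Wr : Subgroup G9).map ψ.toMonoidHom = Cfsg.Geo.tensorWreathSubgroup 3 2 e P := by
    have h1 : (Wr : Subgroup G9).map (Cfsg.Geo.glReindex τ.symm).toMonoidHom = Cfsg.Geo.tensorWreathStandard 3 2 F := by
      refine le_antisymm ?_ ?_
      · have hkr : ∀ a b, Cfsg.Geo.glReindex τ.symm (kr a b) ∈ Cfsg.Geo.tensorWreathStandard 3 2 F := fun a b =>
          Subgroup.subset_closure (Or.inl ⟨![a, b], fun x y => by
            rw [coe_glReindex, kr_coe]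
            simp [τ, Fin.prod_univ_two, Matrix.kroneckerMap_apply]⟩)
        have hsw : Cfsg.Geo.glReindex τ.symm (sw : G9) ∈ Cfsg.Geo.tensorWreathStandard 3 2 F :=
          Subgroup.subset_closure (Or.inr ⟨Equiv.swap 0 1, fun x y => by
            rw [coe_glReindex]
            show swM (τ x) (τ y) = _
            simp only [swM, Matrix.of_apply]
            refine if_congr ?_ rfl rfl
            constructor
            · intro h
              funext i
              have h1 := congrArg Prod.fst h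
              have h2 := congrArg Prod.snd h
              simp [τ] at h1 h2
              fin_cases i <;> simp [h1, h2]
            · rintro rfl
              simp [τ]⟩)
        rintro _ ⟨g, hg | hg, rfl⟩
        · obtain ⟨a, b, rfl⟩ := exists_kr hg
          exact hkr a b
        · obtain ⟨a, b, hab⟩ := exists_kr hg
          rw [show g = kr a b * sw by rw [← hab, mul_assoc, sw_mul_self, mul_one], map_mul]
          exact mul_mem (hkr a b) hsw
      · refine (Subgroup.closure_le _).2 ?_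
        intro g hg
        refine ⟨Cfsg.Geo.glReindex τ g, ?_, Units.ext (by
          show Units.val (Cfsg.Geo.glReindex τ.symm (Cfsg.Geo.glReindex τ g)) = _
          rw [coe_glReindex, coe_glReindex]; simp [Matrix.submatrix_submatrix])⟩
        rcases hg with ⟨gs, hgs⟩ | ⟨σ, hσ⟩
        · refine Or.inl ⟨gs 0, gs 1, ?_⟩
          rw [coe_glReindex]
          ext x y
          simp [hgs, τ, Fin.prod_univ_two, Matrix.kroneckerMap_apply]
        · rcases ((by decide : ∀ σ : Equiv.Perm (Fin 2), σ = 1 ∨ σ = Equiv.swap 0 1) σ) with rfl | rfl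
          · rw [show Cfsg.Geo.glReindex τ g = 1 from Units.ext (by
              rw [coe_glReindex]
              ext x y
              rw [Matrix.submatrix_apply, hσ, Units.val_one, Matrix.one_apply]
              simp [τ.symm.injective.eq_iff, eq_comm])]
            exact one_mem _
          · refine Or.inr ?_
            rw [show Cfsg.Geo.glReindex τ g = sw from Units.ext (by
              rw [coe_glReindex]
              ext x y
              rw [Matrix.submatrix_apply, hσ]
              show _ = swM x y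
              simp only [swM, Matrix.of_apply]
              refine if_congr ?_ rfl rfl
              constructor
              · intro h
                have h1 := congrFun h 0
                have h2 := congrFun h 1
                simp [τ] at h1 h2
                exact Prod.ext h1 h2
              · rintro rfl
                funext i
                fin_cases i <;> simp [τ]), sw_mul_self]
            exact one_mem _
    rw [Cfsg.Geo.tensorWreathSubgroup, ← h1, Subgroup.map_map, Subgroup.map_map]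
    rfl
  let φ : G9 ≃* GL ι F := (MulAut.conj (kr C C)).trans ψ
  set c' := κ * (d * d) with hc'
  have hc0 : c' ≠ 0 := mul_ne_zero hκ (mul_ne_zero hd hd)
  let L : Vv →ₗ[F] (ι → F) :=
    ((Matrix.toLin' (Units.val P)).comp (LinearMap.funLeft F F e')).comp (Matrix.toLin' (Units.val (kr C C)))
  have hL : ∀ x, L x = (Units.val P) *ᵥ (((Units.val (kr C C)) *ᵥ x) ∘ e') := fun x => rfl
  have hφ : ∀ g x, (Units.val (φ g)) *ᵥ L x = L ((Units.val g) *ᵥ x) := fun g x => by
    rw [hL, hL]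
    show (Units.val (ψ (MulAut.conj (kr C C) g))) *ᵥ _ = _
    rw [hψ, MulAut.conj_apply, mulVec_mul_GL, mulVec_mul_GL, inv_mulVec_cancel]
  have hsurj : ∀ z, ∃ x, L x = z := fun z =>
    ⟨(Units.val (kr C C)⁻¹) *ᵥ (((Units.val P⁻¹) *ᵥ z) ∘ e'.symm), by
      rw [hL, mulVec_inv_cancel, Function.comp_assoc, Equiv.symm_comp_self, Function.comp_id, mulVec_inv_cancel]⟩
  have hgram : ∀ u v, Cfsg.Geo.formOfGram id (Cfsg.Geo.gramMatrix f₁) u v = f₁ u v := fun u v =>
    Factor.formOfGram_gram (RingHom.id F) hf₁.bilinear.add_left hf₁.bilinear.smul_left hf₁.bilinear.add_right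
      (fun c v x => hf₁.bilinear.smul_right c v x) u v
  have hval' : ∀ u w u' w', QuadraticMap.polar R (L (pure u w)) (L (pure u' w')) =
      c' * (pure u w ⬝ᵥ pure u' w') := fun u w u' w' => by
    rw [hL, hL, kr_pure, kr_pure]
    have hcomp : ∀ z : Vv, z ∘ e' = (z ∘ τ) ∘ e := fun z => rfl
    rw [hcomp, hcomp, hval]
    have e1 : ∀ (x y : Vv),
        ∑ a, ∑ b, (x ∘ τ) a * (∏ i, Cfsg.Geo.gramMatrix f₁ (a i) (b i)) * id ((y ∘ τ) b) =
          Cfsg.Geo.formOfGram id (Matrix.kroneckerMap (· * ·) (Cfsg.Geo.gramMatrix f₁) (Cfsg.Geo.gramMatrix f₁)) x y := by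
      intro x y
      refine Fintype.sum_equiv τ _ _ fun a => Fintype.sum_equiv τ _ _ fun b => ?_
      simp [τ, Fin.prod_univ_two, Matrix.kroneckerMap_apply]
    rw [e1]
    have h1 := Factor.formOfGram_pure (RingHom.id F) (Cfsg.Geo.gramMatrix f₁) (Cfsg.Geo.gramMatrix f₁)
      ((Units.val C) *ᵥ u) ((Units.val C) *ᵥ u') ((Units.val C) *ᵥ w) ((Units.val C) *ᵥ w')
    change Cfsg.Geo.formOfGram id _ (pure _ _) (pure _ _) =
      Cfsg.Geo.formOfGram id _ _ _ * Cfsg.Geo.formOfGram id _ _ _ at h1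
    rw [h1, hgram, hgram, hC, hC, dot_pure, hc']
    ring
  have hpol : ∀ x y, QuadraticMap.polar R (L x) (L y) = c' * (x ⬝ᵥ y) := fun x y => by
    rw [TensorMax.sum_rows x, TensorMax.sum_rows y, map_sum, map_sum]
    simp only [← QuadraticMap.polarBilin_apply_apply, map_sum, LinearMap.sum_apply]
    simp only [QuadraticMap.polarBilin_apply_apply, hval', dotProduct_sum, sum_dotProduct, Finset.mul_sum]
  have hR : ∀ x, R (L x) = c' * Q₉ x := fun x => by
    have := hpol x x
    rw [polar_self'] at this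
    rw [qd_apply]
    refine mul_left_cancel₀ h2 ?_
    rw [this]
    field_simp
  have hiso : ∀ {ι : Type} [Fintype ι] [DecidableEq ι] (S : (ι → F) → F) (g : GL ι F),
      g ∈ Cfsg.isometryGroup F S ↔ ∀ x, S ((Units.val g) *ᵥ x) = S x :=
    fun S g => ⟨fun h x => h x x, fun h x _ => h x⟩
  have hmapI : (Cfsg.isometryGroup F ⇑Q₉).map φ.toMonoidHom = Cfsg.isometryGroup F ⇑R := by
    ext g
    constructor
    · rintro ⟨x, hx, rfl⟩
      refine (hiso _ _).2 fun z => ?_
      obtain ⟨a, rfl⟩ := hsurj z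
      show R ((Units.val (φ x)) *ᵥ _) = _
      rw [hφ, hR, hR, (hiso _ _).1 hx a]
    · intro hg
      refine ⟨φ.symm g, (hiso _ _).2 fun a => mul_left_cancel₀ hc0 ?_, φ.apply_symm_apply g⟩
      rw [← hR, ← hR, ← hφ, φ.apply_symm_apply]
      exact (hiso _ _).1 hg _
  have hΩ : ∀ {ι : Type} [Fintype ι] [DecidableEq ι] (S : (ι → F) → F),
      Cfsg.Geo.omegaGL S = ⁅Cfsg.isometryGroup F S, Cfsg.isometryGroup F S⁆ :=
    fun S => Subgroup.map_subtype_commutator _
  have hmap : ((Cfsg.Geo.omegaGL ⇑Q₉)).map φ.toMonoidHom = Cfsg.Geo.omegaGL ⇑R := by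
    rw [hΩ, hΩ, Subgroup.map_commutator, hmapI]
  have hconj : (Wr : Subgroup G9).map (MulAut.conj (kr C C)).toMonoidHom = Wr := by
    have hk : kr C C ∈ (Wr : Subgroup G9) := Or.inl (kr_mem_kron _ _)
    refine le_antisymm ?_ fun g hg => ⟨(kr C C)⁻¹ * g * kr C C, mul_mem (mul_mem (inv_mem hk) hg) hk, ?_⟩
    · rintro _ ⟨g, hg, rfl⟩
      exact mul_mem (mul_mem hk hg) (inv_mem hk)
    · simp [mul_assoc]
  have h := SubfieldLinear.isMaximalIn_map φ (model_maximal h2 h5)
  rw [Subgroup.map_inf _ _ _ φ.injective, hmap] at h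
  convert h using 2
  rw [← hW]
  conv_lhs => rw [← hconj, Subgroup.map_map]
  rfl

end Cfsg.Agent.Forms.Max.NineTensor
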