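import Cfsg.Agent.Lib.Forms.Max.NineTensor.Quartic

/-!
# The preservers of the quartic form keep the decomposition
-/

set_option autoImplicit false
set_option linter.unusedSectionVars false

namespace Cfsg.Agent.Forms.Max.NineTensor

open Matrix Cfsg.Agent.Aschbacher Cfsg.Agent.Forms.Max.TensorMax
open Cfsg.Agent.Forms.Max.TensorRes (kr_mem_kron exists_kr)
open Cfsg.Agent.Forms.Max.TensorRes.Unitary (pure_add_left pure_smul_left pure_add_right pure_smul_right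
  pure_zero_left pure_zero_right pure_ne_zero)

variable {F : Type*} [Field F] [Fintype F]

local notation "Fv" => (Fin 3 → F)
local notation "Vv" => (Fin 3 × Fin 3 → F)
local notation "G9" => GL (Fin 3 × Fin 3) F
local notation "M3" => Matrix (Fin 3) (Fin 3) F

/-- the cubic map of the quartic form -/
def kap3 (X Y : Matrix (Fin 3) (Fin 3) F) : Matrix (Fin 3) (Fin 3) F :=
  (2 : F) • (X * Yᵀ * X) - Y * Xᵀ * X - X * Xᵀ * Y

theorem qf_eq (X Y W : M3) : qf X Y X W = -2 * trace (kap3 X Y * Wᵀ) := by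
  simp [qf, kap3, trace, Matrix.diag, Matrix.mul_apply, Fin.sum_univ_three]
  ring

theorem kap3_transpose (X Y : M3) : kap3 Xᵀ Yᵀ = (kap3 X Y)ᵀ := by
  simp only [kap3, transpose_sub, transpose_smul, transpose_mul, transpose_transpose, mul_assoc]
  abel

/-- totally isotropic rows lie on a line -/
theorem exists_of_gram_zero (h2 : (2 : F) ≠ 0) {X : M3} (hX : X ≠ 0) (h : X * Xᵀ = 0) :
    ∃ u w, X = vecMulVec u w := by
  have hr : ∀ i j, X i ⬝ᵥ X j = 0 := fun i j => by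
    have := congrFun (congrFun h i) j
    simpa [Matrix.mul_apply, dotProduct] using this
  obtain ⟨i, hi⟩ : ∃ i, X i ≠ 0 := Function.ne_iff.1 hX
  obtain ⟨c, p, hf⟩ := exists_frame h2 hi (hr i i)
  obtain ⟨r1, r2, r3, r4, r5, r6, r7, r8, r9⟩ := hf.rel
  refine ⟨fun j => X j ⬝ᵥ p, X i, Matrix.ext fun j l => ?_⟩
  have hyu : X j ⬝ᵥ X i = 0 := hr j i
  have hy := hf.expand (X j)
  rw [hyu, zero_smul, add_zero] at hy
  have hyc : X j ⬝ᵥ c = 0 := by
    have := hr j j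
    nth_rewrite 1 [hy] at this
    rw [sub_dotProduct, smul_dotProduct, smul_dotProduct, dotProduct_comm (X i), hyu, dotProduct_comm c,
      smul_eq_mul, smul_eq_mul, mul_zero, zero_sub, neg_eq_zero] at this
    exact mul_self_eq_zero.1 this
  rw [hyc, zero_smul, sub_zero] at hy
  exact congrFun hy l

/-- the matrices with scalar cubic map are singular tensors of rank one -/
theorem rank_one_of_kap3 (h2 : (2 : F) ≠ 0) {X : M3} (hX : X ≠ 0) (ht : trace (X * Xᵀ) = 0)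
    (h : ∀ Y, ∃ l : F, kap3 X Y = l • X) : ∃ u w, X = vecMulVec u w := by
  by_cases hd : X.det = 0
  · obtain ⟨v, hv, hXv⟩ := Matrix.exists_mulVec_eq_zero_iff.2 hd
    obtain ⟨u, hu, huX⟩ := Matrix.exists_vecMul_eq_zero_iff.2 hd
    set C := X * Xᵀ with hC
    by_cases hCz : C = 0
    · exact exists_of_gram_zero h2 hX hCz
    obtain ⟨i, hi⟩ : ∃ i, C *ᵥ (Pi.single i 1) ≠ 0 := by
      by_contra hc
      push Not at hc
      exact hCz (Matrix.ext_of_mulVec_single fun i => by rw [hc, zero_mulVec])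
    obtain ⟨l, hl⟩ := h (vecMulVec (Pi.single i 1) v)
    have e : kap3 X (vecMulVec (Pi.single i 1) v) = -vecMulVec (C *ᵥ Pi.single i 1) v := by
      have hAv : v ᵥ* (Xᵀ * X) = 0 := by rw [← vecMul_vecMul, vecMul_transpose, hXv, zero_vecMul]
      rw [kap3, transpose_vecMulVec, mul_vecMulVec, vecMulVec_mul, hXv, mul_assoc (vecMulVec _ _), vecMulVec_mul,
        hAv, mul_vecMulVec, ← hC]
      simp
    rw [e] at hl
    have hl0 : l ≠ 0 := fun h0 => by
      rw [h0, zero_smul, neg_eq_zero, vecMulVec_eq_zero] at hl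
      exact hl.elim hi hv
    refine ⟨(-l⁻¹) • (C *ᵥ Pi.single i 1), v, ?_⟩
    rw [smul_vecMulVec, neg_smul, ← smul_neg, hl, inv_smul_smul₀ hl0]
  · exfalso
    have hu : IsUnit X := (Matrix.isUnit_iff_isUnit_det X).2 (isUnit_iff_ne_zero.2 hd)
    set C := X * Xᵀ with hC
    have key : ∀ Z : M3, ∃ l : F, (2 : F) • (C * Zᵀ) - Z * C - C * Z = l • 1 := fun Z => by
      obtain ⟨l, hl⟩ := h (Z * X)
      refine ⟨l, hu.mul_right_cancel ?_⟩
      rw [smul_mul_assoc l, one_mul, ← hl, kap3, hC]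
      simp only [transpose_mul, Matrix.sub_mul, smul_mul_assoc, mul_assoc]
    have hCt : Cᵀ = C := by rw [hC, transpose_mul, transpose_transpose]
    have hsym : ∀ Z : M3, Zᵀ = Z → C * Z = Z * C := fun Z hZ => by
      obtain ⟨l, hl⟩ := key Z
      rw [hZ] at hl
      have e : C * Z - Z * C = l • (1 : M3) := by rw [← hl]; module
      have e' := congrArg Matrix.transpose e
      rw [transpose_sub, transpose_mul C Z, transpose_mul Z C, hCt, hZ, transpose_smul, transpose_one] at e'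
      have hl0 : l = 0 := by
        have h3 := congrFun (congrFun e 0) 0
        have h4 := congrFun (congrFun e' 0) 0
        simp only [Matrix.sub_apply, Matrix.smul_apply, one_apply_eq, smul_eq_mul, mul_one] at h3 h4
        exact (mul_eq_zero.1 (show (2 : F) * l = 0 by linear_combination -h3 - h4)).resolve_left h2
      rwa [hl0, zero_smul, sub_eq_zero] at e
    have hoff : ∀ i j, i ≠ j → C i j = 0 := fun i j hij => by
      have := congrFun (congrFun (hsym (Matrix.single j j 1) (Matrix.transpose_single _ _ _)) i) j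
      simpa [hij] using this
    have hdiag : ∀ i j, C i i = C j j := fun i j => by
      by_cases hij : i = j
      · rw [hij]
      have := congrFun (congrFun (hsym (Matrix.single i j 1 + Matrix.single j i 1) (by
        rw [transpose_add, Matrix.transpose_single, Matrix.transpose_single, add_comm])) i) j
      simpa [Matrix.mul_add, Matrix.add_mul, hij, Ne.symm hij] using this
    have hCc : C = C 0 0 • 1 := Matrix.ext fun i j => by
      by_cases hij : i = j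
      · subst hij; simp [hdiag i 0]
      · simp [hoff i j hij, hij]
    obtain ⟨l, hl⟩ := key (Matrix.single 0 1 1 - Matrix.single 1 0 1)
    rw [hCc] at hl
    have h01 := congrFun (congrFun hl 0) 1
    simp [transpose_sub, Matrix.transpose_single] at h01
    have h4 : (4 : F) ≠ 0 := by rw [show (4 : F) = 2 * 2 by norm_num]; exact mul_ne_zero h2 h2
    have hc0 : C 0 0 = 0 := (mul_eq_zero.1 (show (4 : F) * C 0 0 = 0 by linear_combination -h01)).resolve_left h4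
    apply hd
    have : C.det = 0 := by rw [hCc, hc0, zero_smul, det_zero]
    rwa [hC, det_mul, det_transpose, mul_self_eq_zero] at this

/-- the right factor of a rank one solution is singular -/
theorem right_sing {u w : Fv} (hu : u ≠ 0) (hw : w ≠ 0) (huu : u ⬝ᵥ u ≠ 0) (hww : w ⬝ᵥ w = 0)
    (h : ∀ Y, ∃ l : F, kap3 (vecMulVec u w) Y = l • vecMulVec u w) : False := by
  obtain ⟨j, hj⟩ := Function.ne_iff.1 hw
  set b : Fv := (w j)⁻¹ • Pi.single j 1 with hb
  have hbw : b ⬝ᵥ w = 1 := by rw [hb, smul_dotProduct, single_dotProduct, one_mul, smul_eq_mul, inv_mul_cancel₀ hj]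
  have hall : ∀ a : Fv, ∃ s : F, a = s • u := fun a => by
    obtain ⟨l, hl⟩ := h (vecMulVec a b)
    refine ⟨(u ⬝ᵥ u)⁻¹ * (2 * (a ⬝ᵥ u) - l), funext fun i => ?_⟩
    have e := congrFun (congrFun hl i) j
    simp only [kap3, transpose_vecMulVec, vecMulVec_mul_vecMulVec, Matrix.sub_apply, Matrix.smul_apply,
      vecMulVec_apply, Pi.smul_apply, smul_eq_mul, hww, zero_smul, smul_mul_assoc, mul_zero, zero_mul,
      dotProduct_comm w b, hbw, op_smul_eq_smul, Pi.zero_apply, one_smul, zero_dotProduct, mul_one] at e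
    rw [Pi.smul_apply, smul_eq_mul]
    field_simp
    refine mul_right_cancel₀ hj ?_
    linear_combination -e
  obtain ⟨i, hi⟩ := Function.ne_iff.1 hu
  obtain ⟨k, hk⟩ : ∃ k, k ≠ i := exists_ne i
  obtain ⟨s, hs⟩ := hall (Pi.single k 1)
  have e1 := congrFun hs i
  have e2 := congrFun hs k
  simp [hk.symm] at e1 e2
  rcases e1 with rfl | e1
  · simp at e2
  · exact hi e1

/-- the singular tensors of rank one, through the quartic form -/
def PS (X : Fin 3 × Fin 3 → F) : Prop :=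
  X ≠ 0 ∧ X ⬝ᵥ X = 0 ∧ ∀ Y W, X ⬝ᵥ W = 0 → a4 ![X, Y, X, W] = 0

theorem PS_pure (u w : Fv) (hu : u ≠ 0) (hw : w ≠ 0) (huu : u ⬝ᵥ u = 0) (hww : w ⬝ᵥ w = 0) : PS (pure u w) := by
  refine ⟨pure_ne_zero hu hw, by rw [dot_pure, huu, zero_mul], fun Y W hW => ?_⟩
  rw [a4_apply]
  show qf (mat (pure u w)) (mat Y) (mat (pure u w)) (mat W) = 0
  have e : kap3 (mat (pure u w)) (mat Y) = (2 * (w ⬝ᵥ (mat Y)ᵀ *ᵥ u)) • mat (pure u w) := by
    rw [mat_pure, kap3, transpose_vecMulVec, mul_assoc (mat Y), vecMulVec_mul_vecMulVec, vecMulVec_mul_vecMulVec, huu, hww,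
      vecMulVec_mul, zero_smul, zero_smul, vecMulVec_zero, vecMulVec_zero, mul_zero, zero_mul, sub_zero, sub_zero,
      vecMulVec_mul_vecMulVec, dotProduct_mulVec, vecMulVec_smul, smul_smul]
  rw [qf_eq, e, smul_mul_assoc, trace_smul, ← dot_mat, hW, smul_zero, mul_zero]

theorem exists_of_PS (h2 : (2 : F) ≠ 0) {X : Vv} (h : PS X) :
    ∃ u w : Fv, u ≠ 0 ∧ w ≠ 0 ∧ u ⬝ᵥ u = 0 ∧ w ⬝ᵥ w = 0 ∧ X = pure u w := by
  obtain ⟨hX, hQ, hP⟩ := h
  obtain ⟨i, hi⟩ := Function.ne_iff.1 hX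
  set z : Vv := (X i)⁻¹ • Pi.single i 1
  have hXz : X ⬝ᵥ z = 1 := by simp [z, inv_mul_cancel₀ hi]
  have hK : ∀ Y : M3, ∃ l : F, kap3 (mat X) Y = l • mat X := fun Y => by
    set k : Vv := fun a => kap3 (mat X) Y a.1 a.2
    have hk : mat k = kap3 (mat X) Y := rfl
    refine ⟨k ⬝ᵥ z, ?_⟩
    have e : ∀ W, X ⬝ᵥ W = 0 → k ⬝ᵥ W = 0 := fun W hW => by
      have h1 : qf (mat X) Y (mat X) (mat W) = 0 := hP (fun a => Y a.1 a.2) W hW
      rw [qf_eq, ← hk, ← dot_mat] at h1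
      exact (mul_eq_zero.1 h1).resolve_left (neg_ne_zero.2 h2)
    rw [← hk, ← map_smul]
    refine congrArg mat (dotProduct_eq _ _ fun W => ?_)
    have := e (W - (X ⬝ᵥ W) • z) (by rw [dotProduct_sub, dotProduct_smul, hXz, smul_eq_mul, mul_one, sub_self])
    rw [dotProduct_sub, dotProduct_smul, smul_eq_mul] at this
    rw [smul_dotProduct, smul_eq_mul]
    linear_combination this
  have hX' : mat X ≠ 0 := fun h0 => hX (mat_inj (h0.trans (map_zero mat).symm))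
  obtain ⟨u, w, huw⟩ := rank_one_of_kap3 h2 hX' (by rw [← dot_mat, hQ]) hK
  have hXp : X = pure u w := mat_inj (by rw [mat_pure, huw])
  have hu : u ≠ 0 := fun h0 => hX (by rw [hXp, h0, pure_zero_left])
  have hw : w ≠ 0 := fun h0 => hX (by rw [hXp, h0, pure_zero_right])
  rw [hXp, dot_pure] at hQ
  refine ⟨u, w, hu, hw, ?_, ?_, hXp⟩
  · by_contra huu
    exact right_sing hu hw huu ((mul_eq_zero.1 hQ).resolve_left huu) fun Y => by rw [← huw]; exact hK Y
  · by_contra hww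
    refine right_sing hw hu hww ((mul_eq_zero.1 hQ).resolve_right hww) fun Y => ?_
    obtain ⟨l, hl⟩ := hK Yᵀ
    refine ⟨l, ?_⟩
    rw [← transpose_vecMulVec u w, ← huw, ← transpose_transpose Y, kap3_transpose, hl, transpose_smul]

/-- two orthogonal singular vectors are proportional -/
theorem sing_prop (h2 : (2 : F) ≠ 0) {r y : Fv} (hr : r ≠ 0) (hrr : r ⬝ᵥ r = 0) (hyr : r ⬝ᵥ y = 0)
    (hyy : y ⬝ᵥ y = 0) : ∃ s : F, y = s • r := by
  obtain ⟨c, p, hf⟩ := exists_frame h2 hr hrr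
  have hy := hf.expand y
  rw [dotProduct_comm y r, hyr, zero_smul, add_zero] at hy
  have hyc : y ⬝ᵥ c = 0 := by
    nth_rewrite 1 [hy] at hyy
    rw [sub_dotProduct, smul_dotProduct, smul_dotProduct, hyr, dotProduct_comm c, smul_eq_mul, smul_eq_mul,
      mul_zero, zero_sub, neg_eq_zero] at hyy
    exact mul_self_eq_zero.1 hyy
  rw [hyc, zero_smul, sub_zero] at hy
  exact ⟨_, hy⟩

variable {M : Subgroup (GL (Fin 3 × Fin 3) F)} (D : Data M)
include D

theorem Data.PS_map {g : G9} (hg : g ∈ M) {X : Vv} (h : PS X) : PS ((Units.val g) *ᵥ X) := by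
  obtain ⟨hX, hQ, hP⟩ := h
  refine ⟨fun h0 => hX (mulVec_inj g (h0.trans (mulVec_zero _).symm)), by rw [D.dot hg, hQ], fun Y W hW => ?_⟩
  have h1 := D.a4_fixed hg ![X, (Units.val g⁻¹) *ᵥ Y, X, (Units.val g⁻¹) *ᵥ W]
  rw [hP _ _ (by rw [← D.dot hg, mulVec_inv_cancel]; exact hW)] at h1
  rw [← h1]
  congr 1
  funext i
  fin_cases i <;> simp [mulVec_inv_cancel]

/-- an overgroup keeps the decomposition -/
theorem Data.le_wr : M ≤ (Wr : Subgroup G9) := fun g hg => by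
  have h2 := D.two
  obtain ⟨u, c, p, hf⟩ := exists_frame₀ (F := F) h2
  obtain ⟨r1, r2, r3, r4, r5, r6, r7, r8, r9⟩ := hf.rel
  set v : Fv := p + c + (2 : F)⁻¹ • u with hv
  have hvv : v ⬝ᵥ v = 0 := by simp [hv, r1, r2, r3, r4, r5, r6, r7, r8, r9]; field_simp; ring
  have huv : u ⬝ᵥ v = 1 := by simp [hv, r1, r3, r5]
  have hpv : p ⬝ᵥ v = 2⁻¹ := by simp [hv, r2, r4, r7]
  have hv0 : v ≠ 0 := fun e => by rw [e, dotProduct_zero] at huv; exact zero_ne_one huv
  have himg : ∀ x, x ≠ 0 → x ⬝ᵥ x = 0 →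
      ∃ a b : Fv, a ≠ 0 ∧ b ≠ 0 ∧ a ⬝ᵥ a = 0 ∧ b ⬝ᵥ b = 0 ∧ (Units.val g) *ᵥ pure x u = pure a b :=
    fun x hx hxx => exists_of_PS h2 (D.PS_map hg (PS_pure x u hx hf.ne hxx r1))
  obtain ⟨a₁, b₁, ha₁, hb₁, ha₁', hb₁', e₁⟩ := himg u hf.ne r1
  obtain ⟨a₂, b₂, ha₂, hb₂, ha₂', hb₂', e₂⟩ := himg p hf.swap.ne r2
  obtain ⟨a₃, b₃, ha₃, hb₃, ha₃', hb₃', e₃⟩ := himg v hv0 hvv
  have hperp : ∀ {x y a b a' b' : Fv}, (Units.val g) *ᵥ pure x u = pure a b → (Units.val g) *ᵥ pure y u = pure a' b' →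
      a ≠ 0 → b ≠ 0 → a ⬝ᵥ a = 0 → b ⬝ᵥ b = 0 → a' ⬝ᵥ a' = 0 → b' ⬝ᵥ b' = 0 →
      (∃ s : F, a' = s • a) ∨ ∃ s : F, b' = s • b := by
    intro x y a b a' b' e e' ha hb haa hbb haa' hbb'
    have h := D.dot hg (pure x u) (pure y u)
    rw [e, e', dot_pure, dot_pure, r1, mul_zero] at h
    rcases mul_eq_zero.1 h with h | h
    · exact Or.inl (sing_prop h2 ha haa h haa')
    · exact Or.inr (sing_prop h2 hb hbb h hbb')
  have hindep : ∀ {x y a b : Fv} (s t : F) {z : Fv}, (Units.val g) *ᵥ pure x u = pure a b →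
      (Units.val g) *ᵥ pure y u = pure (s • a) (t • b) → z ⬝ᵥ x = 0 → z ⬝ᵥ y ≠ 0 → False := by
    intro x y a b s t z e e' hzx hzy
    rw [pure_smul_left, pure_smul_right, smul_smul, ← e, ← mulVec_smul, ← pure_smul_left] at e'
    have h0 := congrArg (fun X => X ⬝ᵥ pure z p) (mulVec_inj g e')
    simp only [dot_pure, r3, mul_one, dotProduct_comm _ z, dotProduct_smul, hzx, smul_zero] at h0
    exact hzy h0
  have h12 : ∀ s t : F, a₂ = s • a₁ → b₂ = t • b₁ → False := fun s t hs ht =>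
    hindep s t e₁ (by rw [e₂, hs, ht]) r1 (by rw [r3]; exact one_ne_zero)
  have hcx : ∀ x : Fv, x = (x ⬝ᵥ p) • u - (x ⬝ᵥ c) • c + (x ⬝ᵥ u) • p := hf.expand
  have hvc : c = v - p - (2 : F)⁻¹ • u := by rw [hv]; abel
  have hspan : ∀ x : Fv, ∃ α β γ : F, x = α • u + β • p + γ • v := fun x =>
    ⟨(x ⬝ᵥ p) + (x ⬝ᵥ c) * 2⁻¹, (x ⬝ᵥ c) + (x ⬝ᵥ u), -(x ⬝ᵥ c), by
      conv_lhs => rw [hcx x]
      generalize x ⬝ᵥ c = γ
      rw [hvc]
      module⟩
  have hboth : ∀ (w : Fv) (α₁ α₂ α₃ : Fv), (Units.val g) *ᵥ pure u u = pure α₁ w →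
      (Units.val g) *ᵥ pure p u = pure α₂ w → (Units.val g) *ᵥ pure v u = pure α₃ w →
      ∀ x, ∃ q, (Units.val g) *ᵥ pure x u = pure q w := fun w α₁ α₂ α₃ k₁ k₂ k₃ x => by
    obtain ⟨α, β, γ, rfl⟩ := hspan x
    exact ⟨α • α₁ + β • α₂ + γ • α₃, by
      simp only [pure_add_left, pure_smul_left, mulVec_add, mulVec_smul, k₁, k₂, k₃]⟩
  have hboth' : ∀ (w : Fv) (α₁ α₂ α₃ : Fv), (Units.val g) *ᵥ pure u u = pure w α₁ →
      (Units.val g) *ᵥ pure p u = pure w α₂ → (Units.val g) *ᵥ pure v u = pure w α₃ →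
      ∀ x, ∃ q, (Units.val g) *ᵥ pure x u = pure w q := fun w α₁ α₂ α₃ k₁ k₂ k₃ x => by
    obtain ⟨α, β, γ, rfl⟩ := hspan x
    exact ⟨α • α₁ + β • α₂ + γ • α₃, by
      simp only [pure_add_left, pure_add_right, pure_smul_left, pure_smul_right, mulVec_add, mulVec_smul, k₁, k₂, k₃]⟩
  rcases hperp e₁ e₂ ha₁ hb₁ ha₁' hb₁' ha₂' hb₂' with ⟨s, hs⟩ | ⟨t, ht⟩
  · -- a common left factor
    rcases hperp e₁ e₃ ha₁ hb₁ ha₁' hb₁' ha₃' hb₃' with ⟨s', hs'⟩ | ⟨t', ht'⟩
    · refine D.slot_cross hg hf.ne r1 ha₁ ha₁' (hboth' a₁ b₁ (s • b₂) (s' • b₃) e₁ ?_ ?_)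
      · rw [e₂, hs, pure_smul_left, pure_smul_right]
      · rw [e₃, hs', pure_smul_left, pure_smul_right]
    · exfalso
      rcases hperp e₂ e₃ ha₂ hb₂ ha₂' hb₂' ha₃' hb₃' with ⟨s', hs'⟩ | ⟨t'', ht''⟩
      · exact hindep (z := u) (s' * s) t' e₁ (by rw [e₃, hs', hs, smul_smul, ht']) r1 (by rw [huv]; exact one_ne_zero)
      · have ht0 : t'' ≠ 0 := fun h0 => hb₃ (by rw [ht'', h0, zero_smul])
        refine h12 s (t''⁻¹ * t') hs ?_
        rw [← smul_smul, ← ht', ht'', smul_smul, inv_mul_cancel₀ ht0, one_smul]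
  · -- a common right factor
    rcases hperp e₁ e₃ ha₁ hb₁ ha₁' hb₁' ha₃' hb₃' with ⟨s', hs'⟩ | ⟨t', ht'⟩
    · exfalso
      rcases hperp e₂ e₃ ha₂ hb₂ ha₂' hb₂' ha₃' hb₃' with ⟨s'', hs''⟩ | ⟨t', ht'⟩
      · have hs0 : s'' ≠ 0 := fun h0 => ha₃ (by rw [hs'', h0, zero_smul])
        refine h12 (s''⁻¹ * s') t ?_ ht
        rw [← smul_smul, ← hs', hs'', smul_smul, inv_mul_cancel₀ hs0, one_smul]
      · exact hindep (z := u) s' (t' * t) e₁ (by rw [e₃, ht', ht, smul_smul, hs']) r1 (by rw [huv]; exact one_ne_zero)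
    · exact Or.inl (D.slot_right hg hf.ne r1 hb₁ hb₁' (hboth b₁ a₁ (t • a₂) (t' • a₃) e₁
        (by rw [e₂, ht, pure_smul_left, pure_smul_right]) (by rw [e₃, ht', pure_smul_left, pure_smul_right])))

end Cfsg.Agent.Forms.Max.NineTensor
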