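import Cfsg.Agent.Lib.Forms.Max.NineTensor.Fusion

/-!
# An overgroup fixes the quartic form of the decomposition
-/

set_option autoImplicit false
set_option linter.unusedSectionVars false

namespace Cfsg.Agent.Forms.Max.NineTensor

open Matrix Cfsg.Agent.Aschbacher Cfsg.Agent.Forms.Max.TensorMax
open Cfsg.Agent.Forms.Max.TensorRes (kr_mem_kron exists_kr)
open Cfsg.Agent.Forms.Max.TensorRes.Unitary (pure_add_left pure_smul_left pure_add_right pure_smul_right
  pure_zero_left pure_zero_right pure_ne_zero)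

variable {F : Type*} [Field F] [Fintype F]

local notation "Fv" => (Fin 3 → F)
local notation "Vv" => (Fin 3 × Fin 3 → F)
local notation "G9" => GL (Fin 3 × Fin 3) F
local notation "M3" => Matrix (Fin 3) (Fin 3) F

/-- a tensor as a matrix -/
def mat : (Fin 3 × Fin 3 → F) →ₗ[F] Matrix (Fin 3) (Fin 3) F where
  toFun x := Matrix.of fun i j => x (i, j)
  map_add' _ _ := rfl
  map_smul' _ _ := rfl

theorem mat_pure (u w : Fv) : mat (pure u w) = vecMulVec u w := rfl

theorem mat_inj {x y : Vv} (h : mat x = mat y) : x = y := funext fun a => congrFun (congrFun h a.1) a.2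

theorem mat_kr (a b : GL (Fin 3) F) (x : Vv) :
    mat ((Units.val (kr a b)) *ᵥ x) = Units.val a * mat x * (Units.val b)ᵀ := by
  conv_lhs => rw [TensorMax.sum_rows x, mulVec_sum, map_sum]
  conv_rhs => rw [TensorMax.sum_rows x, map_sum, Finset.mul_sum, Finset.sum_mul]
  refine Finset.sum_congr rfl fun i _ => ?_
  rw [kr_pure, mat_pure, mat_pure, mul_vecMulVec, vecMulVec_mul, vecMul_transpose]

theorem mat_sw (x : Vv) : mat ((Units.val (sw : G9)) *ᵥ x) = (mat x)ᵀ := by
  rw [sw_mulVec]; rfl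

theorem dot_mat (x y : Vv) : x ⬝ᵥ y = trace (mat x * (mat y)ᵀ) := by
  simp only [dotProduct, Fintype.sum_prod_type, trace, Matrix.diag, Matrix.mul_apply, transpose_apply]
  rfl

/-- the quartic form on matrices -/
def qf (X Y Z W : Matrix (Fin 3) (Fin 3) F) : F :=
  trace ((X * Yᵀ - Y * Xᵀ) * (Z * Wᵀ - W * Zᵀ)ᵀ) + trace ((Xᵀ * Y - Yᵀ * X) * (Zᵀ * W - Wᵀ * Z)ᵀ)

theorem qf_transpose (X Y Z W : M3) : qf Xᵀ Yᵀ Zᵀ Wᵀ = qf X Y Z W := by
  simp only [qf, transpose_transpose]
  rw [add_comm]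

theorem qf_conj {A B : M3} {μ : F} (hμ : μ ≠ 0) (hA : Aᵀ * A = μ • 1) (hB : Bᵀ * B = μ⁻¹ • 1) (X Y Z W : M3) :
    qf (A * X * Bᵀ) (A * Y * Bᵀ) (A * Z * Bᵀ) (A * W * Bᵀ) = qf X Y Z W := by
  have e : ∀ (A B : M3) (ν : F), Bᵀ * B = ν • 1 → ∀ X Y : M3,
      (A * X * Bᵀ) * (A * Y * Bᵀ)ᵀ = ν • (A * (X * Yᵀ) * Aᵀ) := fun A B ν hν X Y => by
    simp only [transpose_mul, transpose_transpose, mul_assoc]
    rw [← mul_assoc Bᵀ B, hν, smul_mul_assoc, one_mul, mul_smul_comm, mul_smul_comm]
  have e' : ∀ X Y : M3, (A * X * Bᵀ)ᵀ * (A * Y * Bᵀ) = μ • (B * (Xᵀ * Y) * Bᵀ) := fun X Y => by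
    simp only [transpose_mul, transpose_transpose, mul_assoc]
    rw [← mul_assoc Aᵀ A, hA, smul_mul_assoc, one_mul, mul_smul_comm, mul_smul_comm]
  have t : ∀ (A : M3) (ν : F), Aᵀ * A = ν • 1 → ∀ P R : M3,
      trace ((A * P * Aᵀ) * (A * R * Aᵀ)ᵀ) = ν ^ 2 * trace (P * Rᵀ) := fun A ν hν P R => by
    rw [e A A ν hν P R, trace_smul, mul_assoc, trace_mul_comm, mul_assoc, hν, mul_smul_comm, mul_one, trace_smul,
      smul_eq_mul, smul_eq_mul]
    ring
  simp only [qf, e A B _ hB, e', ← smul_sub, ← Matrix.mul_sub, ← Matrix.sub_mul, transpose_smul, smul_mul_assoc,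
    mul_smul_comm, trace_smul, t A μ hA, t B μ⁻¹ hB, smul_eq_mul]
  field_simp

theorem qf_self (X : M3) : qf X X X X = 0 := by simp [qf]

/-- the quartic form -/
def a4 : MultilinearMap F (fun _ : Fin 4 => Fin 3 × Fin 3 → F) F :=
  MultilinearMap.mk' (fun t => qf (mat (t 0)) (mat (t 1)) (mat (t 2)) (mat (t 3)))
    (fun t i x y => by
      fin_cases i <;>
        simp [qf, map_add, Matrix.add_mul, Matrix.mul_add, transpose_add, transpose_sub, trace_add, trace_sub,
          Matrix.sub_mul, Matrix.mul_sub] <;> ring)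
    (fun t i c x => by
      fin_cases i <;>
        simp [qf, map_smul, Matrix.sub_mul, Matrix.mul_sub, transpose_sub, transpose_smul, trace_sub, trace_smul,
          smul_mul_assoc, mul_smul_comm, smul_eq_mul] <;> ring)

theorem a4_apply (t : Fin 4 → Vv) : a4 t = qf (mat (t 0)) (mat (t 1)) (mat (t 2)) (mat (t 3)) := rfl

/-- the coefficients of a unipotent element on its frame -/
def Kc (F : Type*) [Field F] : Fin 3 → Fin 3 → F := ![![1, 0, 0], ![1, 1, 0], ![2⁻¹, 1, 1]]

theorem Kc_zero {k l : Fin 3} (h : (k : ℕ) < l) : Kc F k l = 0 := by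
  fin_cases k <;> fin_cases l <;> simp [Kc] at h ⊢

theorem sum_pow_neg (m : ℕ) (hm : m ≤ Fintype.card F - 1) :
    ∑ b : F, (-b) ^ m = if m = Fintype.card F - 1 then -1 else 0 := by
  classical
  rw [show ∑ b : F, (-b) ^ m = ∑ b : F, b ^ m from Fintype.sum_equiv (Equiv.neg F) _ _ fun b => rfl]
  split_ifs with h
  · subst h
    have e : ∀ b : F, b ^ (Fintype.card F - 1) = (1 : F) - if b = 0 then 1 else 0 := fun b => by
      rcases eq_or_ne b 0 with rfl | hb
      · rw [if_pos rfl, sub_self, zero_pow]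
        have := Fintype.one_lt_card (α := F)
        omega
      · rw [if_neg hb, sub_zero, FiniteField.pow_card_sub_one_eq_one b hb]
    simp only [e, Finset.sum_sub_distrib, Finset.sum_const, Finset.card_univ, nsmul_one, FiniteField.cast_card_eq_zero,
      Finset.sum_ite_eq', Finset.mem_univ, if_true, zero_sub]
  · exact FiniteField.sum_pow_lt_card_sub_one F m (by omega)

/-- the expansion along an orbit -/
theorem orbit_sum (f : MultilinearMap F (fun _ : Fin 4 => Fin 3 × Fin 3 → F) F)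
    (ψ : F → G9) (e : Fin 4 → Fin 3 → Vv)
    (hψ : ∀ b i k, (Units.val (ψ b)) *ᵥ e i k = ∑ l : Fin 3, (Kc F k l * b ^ ((k : ℕ) - l)) • e i l)
    (k : Fin 4 → Fin 3) (hk : ∑ i, (k i : ℕ) ≤ Fintype.card F - 1) :
    ∑ b : F, f (fun i => (Units.val (ψ (-b))) *ᵥ e i (k i)) =
      if ∑ i, (k i : ℕ) = Fintype.card F - 1 then -((∏ i, Kc F (k i) 0) * f fun i => e i 0) else 0 := by
  classical
  simp only [hψ, MultilinearMap.map_sum, MultilinearMap.map_smul_univ, smul_eq_mul, Finset.prod_mul_distrib,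
    Finset.prod_pow_eq_pow_sum]
  rw [Finset.sum_comm]
  have hterm : ∀ r : Fin 4 → Fin 3, ∑ b : F, (∏ i, Kc F (k i) (r i)) * (-b) ^ (∑ i, ((k i : ℕ) - r i)) *
      f (fun i => e i (r i)) = if ∑ i, ((k i : ℕ) - r i) = Fintype.card F - 1
        then -((∏ i, Kc F (k i) (r i)) * f fun i => e i (r i)) else 0 := fun r => by
    rw [← Finset.sum_mul, ← Finset.mul_sum, sum_pow_neg _ (le_trans (Finset.sum_le_sum fun i _ => Nat.sub_le _ _) hk)]
    split_ifs <;> ring
  simp only [hterm]
  rw [Finset.sum_eq_single (fun _ => (0 : Fin 3))]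
  · simp
  · intro r _ hr
    by_cases hlt : ∃ i, (k i : ℕ) < r i
    · obtain ⟨i, hi⟩ := hlt
      rw [Finset.prod_eq_zero (Finset.mem_univ i) (Kc_zero hi), zero_mul, neg_zero, ite_self]
    push Not at hlt
    rw [if_neg]
    intro heq
    obtain ⟨i, hi⟩ := Function.ne_iff.1 hr
    have hr0 : (r i : ℕ) ≠ 0 := fun h => hi (Fin.ext h)
    have : ∑ i, ((k i : ℕ) - r i) < ∑ i, (k i : ℕ) :=
      Finset.sum_lt_sum (fun j _ => Nat.sub_le _ _) ⟨i, Finset.mem_univ i, by have := hlt i; omega⟩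
    omega
  · intro h
    exact absurd (Finset.mem_univ _) h

/-- the vectors of a frame -/
def fr (u c p : Fin 3 → F) : Fin 3 → Fin 3 → F := ![u, c, p]

theorem Fr.emap_fr {u c p : Fv} (hf : Fr u c p) (b : F) (k : Fin 3) :
    emap u c b *ᵥ fr u c p k = ∑ l : Fin 3, (Kc F k l * b ^ ((k : ℕ) - l)) • fr u c p l := by
  obtain ⟨e1, e2, e3⟩ := hf.emap_frame b
  fin_cases k <;> simp [fr, Kc, Fin.sum_univ_three, e1, e2, e3] <;> module

theorem pureR_sum (u : Fv) {κ : Type} (s : Finset κ) (v : κ → Fv) : pure u (∑ l ∈ s, v l) = ∑ l ∈ s, pure u (v l) := by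
  rw [← pureL_apply, map_sum]; rfl

theorem pureL_sum (w : Fv) {κ : Type} (s : Finset κ) (v : κ → Fv) : pure (∑ l ∈ s, v l) w = ∑ l ∈ s, pure (v l) w := by
  funext a
  simp [TensorMax.pure, Finset.sum_mul]

theorem Fr.decomp {u c p : Fv} (hf : Fr u c p) (x : Vv) :
    ∃ v : Fin 3 → Fv, x = ∑ k, pure (fr u c p k) (v k) := by
  refine ⟨![∑ i, (Pi.single i 1 ⬝ᵥ p) • row x i, ∑ i, (-(Pi.single i 1 ⬝ᵥ c)) • row x i,
    ∑ i, (Pi.single i 1 ⬝ᵥ u) • row x i], ?_⟩
  rw [Fin.sum_univ_three]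
  conv_lhs => rw [TensorMax.sum_rows x]
  show _ = pure u (∑ i, (Pi.single i 1 ⬝ᵥ p) • row x i) + pure c (∑ i, (-(Pi.single i 1 ⬝ᵥ c)) • row x i) +
    pure p (∑ i, (Pi.single i 1 ⬝ᵥ u) • row x i)
  simp only [pureR_sum, pure_smul_right, ← Finset.sum_add_distrib]
  refine Finset.sum_congr rfl fun i _ => ?_
  conv_lhs => rw [hf.expand (Pi.single i (1 : F))]
  rw [sub_eq_add_neg, ← neg_smul, pure_add_left, pure_add_left, pure_smul_left, pure_smul_left, pure_smul_left]

variable {M : Subgroup (GL (Fin 3 × Fin 3) F)} (D : Data M)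
include D

theorem Data.a4_inv {h : G9} (hh : h ∈ M) (hw : h ∈ (Wr : Subgroup G9)) (t : Fin 4 → Vv) :
    a4 (fun i => (Units.val h) *ᵥ t i) = a4 t := by
  rcases hw with hw | hw
  · obtain ⟨a, b, rfl⟩ := exists_kr hw
    obtain ⟨μ, hμ, hA, hB⟩ := exists_simil D.two (D.iso hh)
    simp only [a4_apply, mat_kr]
    exact qf_conj hμ hA hB _ _ _ _
  · obtain ⟨a, b, hab⟩ := exists_kr hw
    have he : h = kr a b * sw := by rw [← hab, mul_assoc, sw_mul_self, mul_one]
    obtain ⟨μ, hμ, hA, hB⟩ := exists_simil D.two (a := a) (b := b) fun x => by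
      rw [← hab, mulVec_mul_GL, D.iso hh, qd_apply, qd_apply, sw_dot]
    simp only [a4_apply, he, mulVec_mul_GL, mat_kr, mat_sw]
    rw [qf_conj hμ hA hB, qf_transpose]

set_option maxHeartbeats 1000000 in
/-- an overgroup fixes the quartic form -/
theorem Data.a4_fixed {m : G9} (hm : m ∈ M) (t : Fin 4 → Vv) : a4 (fun i => (Units.val m) *ᵥ t i) = a4 t := by
  classical
  have h2 := D.two
  have h5 := D.five
  let H := (Wr : Subgroup G9).subgroupOf M
  let w : M ⧸ H → MultilinearMap F (fun _ : Fin 4 => Fin 3 × Fin 3 → F) F := fun C =>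
    a4.compLinearMap fun _ => Matrix.toLin' (Units.val ((C.out : M) : G9)⁻¹)
  have hw : ∀ (C : M ⧸ H) (t : Fin 4 → Vv),
      w C t = a4 fun i => (Units.val ((C.out : M) : G9)⁻¹) *ᵥ t i := fun C t => rfl
  have hmk : ∀ (g : M) (t : Fin 4 → Vv), w (g : M ⧸ H) t = a4 fun i => (Units.val (g : G9)⁻¹) *ᵥ t i := fun g t => by
    obtain ⟨h, hh⟩ := QuotientGroup.mk_out_eq_mul H g
    rw [hw, hh]
    simp only [Subgroup.coe_mul, _root_.mul_inv_rev, mulVec_mul_GL]
    exact D.a4_inv (inv_mem h.1.2) (inv_mem (Subgroup.mem_subgroupOf.1 h.2)) _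
  have hequiv : ∀ (g : M) (C : M ⧸ H) (t : Fin 4 → Vv),
      w (g • C) (fun i => (Units.val (g : G9)) *ᵥ t i) = w C t := fun g C t => by
    induction C using QuotientGroup.induction_on with
    | H x =>
      rw [MulAction.Quotient.smul_coe, hmk, hmk, smul_eq_mul]
      simp only [Subgroup.coe_mul, _root_.mul_inv_rev, mulVec_mul_GL, inv_mulVec_cancel]
  set one : M ⧸ H := ((1 : M) : M ⧸ H) with hone
  have hsmul_one : ∀ g : M, (g : G9) ∈ (Wr : Subgroup G9) → g • one = one := fun g hg => by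
    rw [hone, MulAction.Quotient.smul_coe, QuotientGroup.eq, smul_eq_mul, mul_one, mul_one, Subgroup.mem_subgroupOf]
    exact inv_mem hg
  let err : MultilinearMap F (fun _ : Fin 4 => Fin 3 × Fin 3 → F) F := ∑ C : {C : M ⧸ H // C ≠ one}, w C.1
  -- sums along the orbits of a root group of a factor
  have key : ∀ (ψ : F → M), (∀ a b, ψ a * ψ b = ψ (a + b)) → (∀ b, (ψ b : G9) ∈ (Wr : Subgroup G9)) →
      (∀ b, b ≠ 0 → ∀ g : G9, g ∈ M → g⁻¹ * (ψ b : G9) * g ∈ (Wr : Subgroup G9) → g ∈ (Wr : Subgroup G9)) →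
      ∀ (e : Fin 4 → Fin 3 → Vv), (∀ b i k, (Units.val (ψ b : G9)) *ᵥ e i k =
        ∑ l : Fin 3, (Kc F k l * b ^ ((k : ℕ) - l)) • e i l) →
      ∃ Z : F, ∀ k : Fin 4 → Fin 3, ∑ i, (k i : ℕ) ≤ Fintype.card F - 1 → err (fun i => e i (k i)) =
        if ∑ i, (k i : ℕ) = Fintype.card F - 1 then (∏ i, Kc F (k i) 0) * Z else 0 := by
    intro ψ hadd hmem hfree e he
    have h0 : ψ 0 = 1 := by
      have := hadd 0 0
      rwa [add_zero, mul_eq_left] at this
    have hneg : ∀ b, (ψ b)⁻¹ = ψ (-b) := fun b => inv_eq_of_mul_eq_one_right (by rw [hadd, add_neg_cancel, h0])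
    let act : F → {C : M ⧸ H // C ≠ one} → {C : M ⧸ H // C ≠ one} := fun b C => ⟨ψ b • C.1, fun h => C.2 (by
      rw [← inv_smul_smul (ψ b) C.1, h, hneg, hsmul_one _ (hmem _)])⟩
    have hact : ∀ a b C, act a (act b C) = act (a + b) C := fun a b C =>
      Subtype.ext (by show ψ a • ψ b • C.1 = _; rw [smul_smul, hadd])
    have hinj : ∀ a b C, act a C = act b C → a = b := fun a b C h => by
      by_contra hne
      have h' : ψ a • C.1 = ψ b • C.1 := congrArg Subtype.val h
      rw [← eq_inv_smul_iff, smul_smul, hneg, hadd, eq_comm] at h'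
      obtain ⟨x, hx⟩ := QuotientGroup.mk_surjective C.1
      refine C.2 ?_
      rw [← hx] at h' ⊢
      rw [MulAction.Quotient.smul_coe, smul_eq_mul, QuotientGroup.eq, Subgroup.mem_subgroupOf] at h'
      rw [hone, QuotientGroup.eq, Subgroup.mem_subgroupOf, mul_one]
      refine inv_mem (hfree (-a + b) (fun h => hne (neg_add_eq_zero.1 h)) x x.2 ?_)
      have h'' := inv_mem h'
      rw [← Subgroup.coe_inv, _root_.mul_inv_rev, inv_inv] at h''
      simpa [mul_assoc] using h''
    let r : Setoid {C : M ⧸ H // C ≠ one} := ⟨fun C C' => ∃ b, act b C = C',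
      fun C => ⟨0, Subtype.ext (by show ψ 0 • C.1 = _; rw [h0, one_smul])⟩,
      fun {C C'} ⟨b, h⟩ => ⟨-b, by rw [← h, hact, neg_add_cancel]; exact Subtype.ext (by show ψ 0 • C.1 = _; rw [h0, one_smul])⟩,
      fun {C C' C''} ⟨a, h⟩ ⟨b, h'⟩ => ⟨b + a, by rw [← hact, h, h']⟩⟩
    have hbij : Function.Bijective fun p : Quotient r × F => act p.2 p.1.out := by
      refine ⟨fun ⟨O, a⟩ ⟨O', b⟩ h => ?_, fun C => ?_⟩
      · have hO : O = O' := by
          rw [← Quotient.out_eq O, ← Quotient.out_eq O']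
          refine Quotient.sound ⟨-b + a, ?_⟩
          rw [← hact, show act a O.out = act b O'.out from h, hact, neg_add_cancel]
          exact Subtype.ext (by show ψ 0 • O'.out.1 = _; rw [h0, one_smul])
        subst hO
        rw [hinj a b _ h]
      · obtain ⟨b, hb⟩ := Quotient.exact (Quotient.out_eq (Quotient.mk r C))
        exact ⟨(Quotient.mk r C, b), hb⟩
    refine ⟨-∑ O : Quotient r, w O.out.1 (fun i => e i 0), fun k hk => ?_⟩
    have hsum : err (fun i => e i (k i)) =
        ∑ O : Quotient r, ∑ b : F, w O.out.1 (fun i => (Units.val (ψ (-b) : G9)) *ᵥ e i (k i)) := by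
      rw [MultilinearMap.sum_apply, ← Fintype.sum_bijective _ hbij _ _ fun _ => rfl, Fintype.sum_prod_type]
      refine Finset.sum_congr rfl fun O _ => Finset.sum_congr rfl fun b _ => ?_
      rw [← hequiv (ψ b) O.out.1]
      congr 1
      funext i
      rw [← mulVec_mul_GL, ← Subgroup.coe_mul, hadd, add_neg_cancel, h0, Subgroup.coe_one, Units.val_one, one_mulVec]
    rw [hsum, Finset.sum_congr rfl fun O _ => orbit_sum (w O.out.1) (fun b => (ψ b : G9)) e he k hk]
    split_ifs
    · rw [Finset.sum_neg_distrib, ← Finset.mul_sum, mul_neg]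
    · exact Finset.sum_const_zero
  obtain ⟨u, c, p, hf⟩ := exists_frame₀ (F := F) h2
  -- the root groups of the frame and of the reversed frame
  have hleft : ∀ {u c p : Fv}, Fr u c p → ∀ v : Fin 4 → Fv, ∃ Z : F, ∀ k : Fin 4 → Fin 3,
      ∑ i, (k i : ℕ) ≤ Fintype.card F - 1 → err (fun i => pure (fr u c p (k i)) (v i)) =
        if ∑ i, (k i : ℕ) = Fintype.card F - 1 then (∏ i, Kc F (k i) 0) * Z else 0 := by
    intro u c p hf v
    choose P hP hPM using D.left_mem hf
    refine key (fun b => ⟨kr (P b) 1, hPM b⟩) (fun a b => Subtype.ext ?_) (fun b => Or.inl (kr_mem_kron _ _))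
      (fun b hb g hg h => D.fusion hg hf hb (hP b) h) (fun i k => pure (fr u c p k) (v i)) fun b i k => ?_
    · show kr (P a) 1 * kr (P b) 1 = kr (P (a + b)) 1
      rw [kr_mul, mul_one, show P a * P b = P (a + b) from Units.ext (by rw [Units.val_mul, hP, hP, hP, hf.emap_mul h2])]
    · rw [kr_pure, hP, Units.val_one, one_mulVec, hf.emap_fr, pureL_sum]
      simp only [pure_smul_left]
  have hright : ∃ Z : F, ∀ k : Fin 4 → Fin 3, ∑ i, (k i : ℕ) ≤ Fintype.card F - 1 →
      err (fun i => pure c (fr u c p (k i))) =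
        if ∑ i, (k i : ℕ) = Fintype.card F - 1 then (∏ i, Kc F (k i) 0) * Z else 0 := by
    choose P hP hPM using D.right_mem hf
    refine key (fun b => ⟨kr 1 (P b), hPM b⟩) (fun a b => Subtype.ext ?_) (fun b => Or.inl (kr_mem_kron _ _))
      (fun b hb g hg h => D.fusion' hg hf hb (hP b) h) (fun i k => pure c (fr u c p k)) fun b i k => ?_
    · show kr 1 (P a) * kr 1 (P b) = kr 1 (P (a + b))
      rw [kr_mul, mul_one, show P a * P b = P (a + b) from Units.ext (by rw [Units.val_mul, hP, hP, hP, hf.emap_mul h2])]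
    · rw [kr_pure, hP, Units.val_one, one_mulVec, hf.emap_fr, pureR_sum]
      simp only [pure_smul_right]
  have hrev : ∀ k : Fin 3, fr u c p k = fr p c u (Fin.rev k) := fun k => by fin_cases k <;> rfl
  have hrevsum : ∀ k : Fin 4 → Fin 3, ∑ i, ((Fin.rev (k i) : Fin 3) : ℕ) + ∑ i, (k i : ℕ) = 8 := fun k => by
    rw [← Finset.sum_add_distrib, Finset.sum_congr rfl fun i _ => (show ((Fin.rev (k i) : Fin 3) : ℕ) + k i = 2 by
      rw [Fin.val_rev]; omega)]
    simp
  have hsum1 : ∑ _i : Fin 4, ((1 : Fin 3) : ℕ) = 4 := by simp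
  -- the middle weight in the fifth order
  have hmid : ∀ v : Fin 4 → Fv, Fintype.card F = 5 → err (fun i => pure c (v i)) = 0 := by
    intro v hq
    have hcc : ∀ k : Fin 4 → Fin 3, err (fun i => pure c (fr u c p (k i))) = 0 := by
      obtain ⟨Z, hZ⟩ := hright
      have hall : err (fun _ : Fin 4 => pure c c) = 0 := by
        rw [MultilinearMap.sum_apply]
        exact Finset.sum_eq_zero fun C _ => by rw [hw, a4_apply]; exact qf_self _
      have hZ0 : Z = 0 := by
        have := hZ (fun _ => 1) (by rw [hsum1]; omega)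
        rw [if_pos (by rw [hsum1]; omega)] at this
        simp only [fr, Matrix.cons_val_one, Matrix.cons_val_zero] at this
        rw [hall] at this
        simpa [Kc] using this.symm
      intro k
      by_cases hk : ∑ i, (k i : ℕ) ≤ 4
      · rw [hZ k (by omega), hZ0, mul_zero, ite_self]
      · choose P hP hPM using D.right_mem hf.swap
        obtain ⟨Y, hY⟩ := key (fun b => ⟨kr 1 (P b), hPM b⟩) (fun a b => Subtype.ext (by
            show kr 1 (P a) * kr 1 (P b) = kr 1 (P (a + b))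
            rw [kr_mul, mul_one, show P a * P b = P (a + b) from
              Units.ext (by rw [Units.val_mul, hP, hP, hP, hf.swap.emap_mul h2])]))
          (fun b => Or.inl (kr_mem_kron _ _)) (fun b hb g hg h => D.fusion' hg hf.swap hb (hP b) h)
          (fun i k => pure c (fr p c u k)) fun b i k => by
            rw [kr_pure, hP, Units.val_one, one_mulVec, hf.swap.emap_fr, pureR_sum]
            simp only [pure_smul_right]
        have h3 := hrevsum k
        have := hY (fun i => Fin.rev (k i)) (by omega)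
        rw [if_neg (by omega)] at this
        simpa only [← hrev] using this
    choose z hz using fun i => (⟨![v i ⬝ᵥ p, -(v i ⬝ᵥ c), v i ⬝ᵥ u], by
      conv_lhs => rw [hf.expand (v i)]
      rw [Fin.sum_univ_three]
      simp [fr, sub_eq_add_neg]⟩ : ∃ z : Fin 3 → F, v i = ∑ l, z l • fr u c p l)
    rw [show (fun i => pure c (v i)) = fun i => ∑ l, z i l • pure c (fr u c p l) from funext fun i => by
      rw [hz i, pureR_sum]; simp only [pure_smul_right]]
    rw [MultilinearMap.map_sum]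
    exact Finset.sum_eq_zero fun r _ => by rw [MultilinearMap.map_smul_univ, hcc, smul_zero]
  have herr : ∀ (k : Fin 4 → Fin 3) (v : Fin 4 → Fv), err (fun i => pure (fr u c p (k i)) (v i)) = 0 := by
    intro k v
    obtain ⟨Z, hZ⟩ := hleft hf v
    obtain ⟨Z', hZ'⟩ := hleft hf.swap v
    have h3 := hrevsum k
    by_cases h4 : ∑ i, (k i : ℕ) ≤ 3
    · rw [hZ k (by omega), if_neg (by omega)]
    by_cases h4' : 5 ≤ ∑ i, (k i : ℕ)
    · have := hZ' (fun i => Fin.rev (k i)) (by omega)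
      rw [if_neg (by omega)] at this
      simpa only [← hrev] using this
    rw [hZ k (by omega)]
    split_ifs with hW
    · have := hZ (fun _ => 1) (by rw [hsum1]; omega)
      rw [if_pos (by rw [hsum1]; omega)] at this
      simp only [fr, Matrix.cons_val_one, Matrix.cons_val_zero] at this
      rw [hmid v (by omega)] at this
      rw [show Z = 0 by simpa [Kc] using this.symm, mul_zero]
    · rfl
  have herr0 : ∀ t, err t = 0 := fun t => by
    choose v hv using fun i => hf.decomp (t i)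
    rw [show t = fun i => ∑ k, pure (fr u c p k) (v i k) from funext hv, MultilinearMap.map_sum]
    exact Finset.sum_eq_zero fun r _ => herr r fun i => v i (r i)
  have hS : ∀ t, ∑ C, w C t = a4 t := fun t => by
    rw [← Finset.add_sum_erase _ _ (Finset.mem_univ one)]
    have h1 : ∑ C ∈ Finset.univ.erase one, w C t = err t := by
      rw [MultilinearMap.sum_apply]
      exact Finset.sum_subtype _ (fun C => by simp) fun C => w C t
    rw [h1, herr0, add_zero, hone, hmk]
    simp
  have := Fintype.sum_equiv (MulAction.toPerm (⟨m, hm⟩ : M)) (fun C => w C t)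
    (fun C => w C fun i => (Units.val m) *ᵥ t i) fun C => (hequiv ⟨m, hm⟩ C t).symm
  rw [hS, hS] at this
  exact this.symm

end Cfsg.Agent.Forms.Max.NineTensor
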